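import Cfsg.Agent.Lib.SylL34.U34

/-!
Uniqueness of the non-abelian group of order 64 with a fixed-point-free automorphism of order 3
and no involution outside the centre: it is the Sylow 2-subgroup of `PSU₃(4)`.
-/

set_option autoImplicit false
set_option linter.style.haveILetI false
set_option linter.unusedSectionVars false

namespace Cfsg.Agent.HigmanRankTwo

open Cfsg.Agent.SylL34
open scoped commutatorElement

variable {T : Type*} [Group T] [Finite T] {ρ : MulAut T}

/-- Normalised generators. -/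
structure Coord (T : Type*) [Group T] [Finite T] (ρ : MulAut T) (u v z : T) : Prop where
  fpf : Fpf T ρ
  hu : u * u = z
  hv : v * v = z
  hz : z ≠ 1
  huv : ⁅u, v⁆ = ρ z
  gen : Subgroup.closure ({u, ρ u, v, ρ v} : Set T) = ⊤

/-- `ρ z` and the like: the four elements of the centre. -/
theorem center_cases (h : Fpf T ρ) {z : T} (hz : z ∈ Subgroup.center T) (hz1 : z ≠ 1) {w : T}
    (hw : w ∈ Subgroup.center T) : w = 1 ∨ w = z ∨ w = ρ z ∨ w = ρ (ρ z) := by
  classical
  haveI : Fintype T := Fintype.ofFinite T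
  have hd1 : ρ z ≠ z := fun e => hz1 (h.fpf _ e)
  have hd2 : ρ (ρ z) ≠ z := fun e => hd1 (by
    have := congrArg ρ e
    rwa [h.three, eq_comm] at this)
  have hd3 : ρ (ρ z) ≠ ρ z := fun e => hd1 (ρ.injective e)
  have hn1 : ρ z ≠ 1 := fun e => hz1 ((map_eq_one_iff ρ ρ.injective).mp e)
  have hn2 : ρ (ρ z) ≠ 1 := fun e => hn1 ((map_eq_one_iff ρ ρ.injective).mp e)
  have h4 : ({1, z, ρ z, ρ (ρ z)} : Finset T).card = 4 := by
    rw [Finset.card_insert_of_notMem, Finset.card_insert_of_notMem,
      Finset.card_insert_of_notMem, Finset.card_singleton] <;>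
    simp [*, Ne.symm]
  have hsub : ({1, z, ρ z, ρ (ρ z)} : Finset T) = (Subgroup.center T : Set T).toFinset := by
    refine Finset.eq_of_subset_of_card_le ?_ ?_
    · intro x hx
      simp only [Finset.mem_insert, Finset.mem_singleton] at hx
      simp only [Set.mem_toFinset, SetLike.mem_coe]
      rcases hx with rfl | rfl | rfl | rfl
      exacts [one_mem _, hz, Fpf.apply_mem_center ρ hz,
        Fpf.apply_mem_center ρ (Fpf.apply_mem_center ρ hz)]
    · rw [Set.toFinset_card, h4, Fintype.card_eq_nat_card]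
      exact le_of_eq h.card_center
  have hw' : w ∈ ({1, z, ρ z, ρ (ρ z)} : Finset T) := by rw [hsub]; simpa using hw
  simpa using hw'

theorem apply_apply_center (h : Fpf T ρ) {y : T} (hy : y ∈ Subgroup.center T) :
    ρ (ρ y) = y * ρ y := by
  rw [eq_inv_of_mul_eq_one_right (orbit_prod h.three h.fpf y)]
  exact inv_eq_of_mul_eq_one_left (h.inv_center (mul_mem hy (Fpf.apply_mem_center ρ hy)))

theorem fpf_symm (h : Fpf T ρ) : Fpf T ρ.symm where
  card := h.card
  nonab := h.nonab
  three y := by
    apply ρ.injective; apply ρ.injective; apply ρ.injective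
    simp only [MulEquiv.apply_symm_apply]
    exact (h.three y).symm
  fpf y hy := h.fpf y (by nth_rw 1 [← hy]; exact ρ.apply_symm_apply y)

/-- Normalised generators exist, up to replacing `ρ` by its inverse. -/
theorem exists_coord (h : Fpf T ρ) (hinv : ∀ y : T, y * y = 1 → y ∈ Subgroup.center T) :
    ∃ (σ : MulAut T) (u v z : T), Coord T σ u v z := by
  classical
  haveI : Fact (Nat.Prime 2) := ⟨Nat.prime_two⟩
  set Z := Subgroup.center T with hZ
  have hop := fun y => orbit_prod h.three h.fpf y
  obtain ⟨u, huZ⟩ : ∃ u : T, u ∉ Z := by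
    by_contra hc
    push Not at hc
    exact h.nonab ⟨⟨fun a b => Subgroup.mem_center_iff.mp (hc b) a⟩⟩
  set U := Subgroup.closure ({u, ρ u} : Set T) ⊔ Z with hU
  have hUρ : ∀ x ∈ U, ρ x ∈ U := by
    have hle : U ≤ U.comap ρ.toMonoidHom := by
      refine sup_le ((Subgroup.closure_le _).mpr ?_) fun x hx => Subgroup.mem_sup_right (Fpf.apply_mem_center ρ hx)
      have hu0 : u ∈ U := Subgroup.mem_sup_left (Subgroup.subset_closure (by simp))
      have hu1 : ρ u ∈ U := Subgroup.mem_sup_left (Subgroup.subset_closure (by simp))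
      intro x hx
      simp only [Set.mem_insert_iff, Set.mem_singleton_iff] at hx
      rcases hx with rfl | rfl
      · exact hu1
      · show ρ (ρ u) ∈ U
        rw [eq_inv_of_mul_eq_one_right (hop u)]
        exact inv_mem (mul_mem hu0 hu1)
    exact fun x hx => hle hx
  have hUcomm : ∀ x ∈ U, ⁅u, x⁆ = 1 := by
    have hle : U ≤ Subgroup.centralizer {u} := by
      refine sup_le ((Subgroup.closure_le _).mpr ?_) (Subgroup.center_le_centralizer _)
      intro x hx
      simp only [Set.mem_insert_iff, Set.mem_singleton_iff] at hx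
      rcases hx with rfl | rfl
      · exact Subgroup.mem_centralizer_singleton_iff.mpr rfl
      · exact Subgroup.mem_centralizer_singleton_iff.mpr (SylL34.commute_apply h.three h.fpf u).symm.eq
    exact fun x hx => commutatorElement_eq_one_iff_mul_comm.mpr
      (Subgroup.mem_centralizer_singleton_iff.mp (hle hx)).symm
  have hUtop : U ≠ ⊤ := fun e => huZ (Subgroup.mem_center_iff.mpr fun g =>
    (commutatorElement_eq_one_iff_mul_comm.mp (hUcomm g (e ▸ Subgroup.mem_top g))).symm)
  obtain ⟨v₀, -, hv₀⟩ := SetLike.exists_of_lt (lt_top_iff_ne_top.mpr hUtop)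
  set z := u * u with hzdef
  have hzZ : z ∈ Z := h.sq_mem_center u
  have hz1 : z ≠ 1 := fun e => huZ (hinv u e)
  have hv₀1 : v₀ * v₀ ≠ 1 := fun e => hv₀ (Subgroup.mem_sup_right (hinv _ e))
  obtain ⟨v, hvU, hv⟩ : ∃ v : T, v ∉ U ∧ v * v = z := by
    rcases center_cases h hzZ hz1 (h.sq_mem_center v₀) with e | e | e | e
    · exact absurd e hv₀1
    · exact ⟨v₀, hv₀, e⟩
    · refine ⟨ρ (ρ v₀), fun hv => hv₀ ?_, by rw [← map_mul, ← map_mul, e, h.three]⟩
      have := hUρ _ hv
      rwa [h.three] at this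
    · refine ⟨ρ v₀, fun hv => hv₀ ?_, by rw [← map_mul, e, h.three]⟩
      have := hUρ _ (hUρ _ hv)
      rwa [h.three] at this
  -- `T` is generated
  set W := Subgroup.closure ({u, ρ u, v, ρ v} : Set T) with hW
  have hZW : Z ≤ W := fun w hw => by
    have h0 : u ∈ W := Subgroup.subset_closure (by simp)
    have h1 : ρ u ∈ W := Subgroup.subset_closure (by simp)
    have hz' : z ∈ W := mul_mem h0 h0
    have hz'' : ρ z ∈ W := by rw [hzdef, map_mul]; exact mul_mem h1 h1
    rcases center_cases h hzZ hz1 hw with rfl | rfl | rfl | rfl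
    · exact one_mem _
    · exact hz'
    · exact hz''
    · rw [eq_inv_of_mul_eq_one_right (hop z)]
      exact inv_mem (mul_mem hz' hz'')
  have hUW : U < W := by
    refine lt_of_le_of_ne (sup_le (Subgroup.closure_mono (by grind)) hZW) fun e => hvU ?_
    rw [e]; exact Subgroup.subset_closure (by simp)
  have hWρ : ∀ x ∈ W, ρ x ∈ W := by
    have hle : W ≤ W.comap ρ.toMonoidHom := by
      refine (Subgroup.closure_le _).mpr ?_
      intro x hx
      simp only [Set.mem_insert_iff, Set.mem_singleton_iff] at hx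
      have hu0 : u ∈ W := Subgroup.subset_closure (by simp)
      have hu1 : ρ u ∈ W := Subgroup.subset_closure (by simp)
      have hv0 : v ∈ W := Subgroup.subset_closure (by simp)
      have hv1 : ρ v ∈ W := Subgroup.subset_closure (by simp)
      rcases hx with rfl | rfl | rfl | rfl
      · exact hu1
      · show ρ (ρ u) ∈ W
        rw [eq_inv_of_mul_eq_one_right (hop u)]
        exact inv_mem (mul_mem hu0 hu1)
      · exact hv1
      · show ρ (ρ v) ∈ W
        rw [eq_inv_of_mul_eq_one_right (hop v)]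
        exact inv_mem (mul_mem hv0 hv1)
    exact fun x hx => hle hx
  have hgen : W = ⊤ := by
    refine Subgroup.eq_top_of_card_eq _ ?_
    rw [h.card]
    have hm := card_mod_three h.three h.fpf _ hWρ
    have hmU := card_mod_three h.three h.fpf _ hUρ
    have hlt := PGroup.mul_card_le_card h.pgroup hUW
    have hZU : Z < U := lt_of_le_of_ne le_sup_right fun e => huZ (by
      rw [e]; exact Subgroup.mem_sup_left (Subgroup.subset_closure (by simp)))
    have hlt' := PGroup.mul_card_le_card h.pgroup hZU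
    rw [h.card_center] at hlt'
    have hd := Subgroup.card_subgroup_dvd_card W
    have hdU := Subgroup.card_subgroup_dvd_card U
    rw [h.card] at hd hdU
    obtain ⟨i, hi, hWi⟩ := (Nat.dvd_prime_pow Nat.prime_two).mp (show Nat.card W ∣ 2 ^ 6 from hd)
    obtain ⟨j, hj, hUj⟩ := (Nat.dvd_prime_pow Nat.prime_two).mp (show Nat.card U ∣ 2 ^ 6 from hdU)
    unfold Nat.ModEq at hm hmU
    interval_cases i <;> interval_cases j <;> omega
  -- the commutator
  set β := ⁅u, v⁆ with hβ
  have hβZ : β ∈ Z := h.comm_mem_center u v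
  have hβ1 : β ≠ 1 := fun e => by
    have hle : W ≤ Subgroup.centralizer {u} := by
      refine (Subgroup.closure_le _).mpr ?_
      intro x hx
      simp only [Set.mem_insert_iff, Set.mem_singleton_iff] at hx
      rw [SetLike.mem_coe, Subgroup.mem_centralizer_singleton_iff]
      rcases hx with rfl | rfl | rfl | rfl
      · rfl
      · exact (SylL34.commute_apply h.three h.fpf u).symm.eq
      · exact (commutatorElement_eq_one_iff_mul_comm.mp e).symm
      · refine (commutatorElement_eq_one_iff_mul_comm.mp ?_).symm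
        rw [(h.comm_apply_right u v).1, ← hβ, e, map_one, map_one]
    exact huZ (Subgroup.mem_center_iff.mpr fun g =>
      Subgroup.mem_centralizer_singleton_iff.mp (hle (hgen ▸ Subgroup.mem_top g)))
  have hβz : β ≠ z := fun e => by
    have hsq : (u * ρ (ρ v)) * (u * ρ (ρ v)) = 1 := by
      rw [h.mul_sq, (h.comm_apply_right u (ρ v)).1, (h.comm_apply_right u v).1, ← hβ, e,
        ← map_mul ρ (ρ v), ← map_mul ρ v, hv, h.three, ← hzdef,
        mul_assoc, h.center_comm (Fpf.apply_mem_center ρ hzZ), ← mul_assoc]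
      exact hop z
    have h2 : u * ρ (ρ v) ∈ U := Subgroup.mem_sup_right (hinv _ hsq)
    have h3 : ρ (ρ v) ∈ U := by
      have := mul_mem (inv_mem (Subgroup.mem_sup_left (Subgroup.subset_closure (by simp)) : u ∈ U)) h2
      rwa [inv_mul_cancel_left] at this
    have := hUρ _ h3
    rw [h.three] at this
    exact hvU this
  rcases center_cases h hzZ hz1 hβZ with e | e | e | e
  · exact absurd e hβ1
  · exact absurd e hβz
  · exact ⟨ρ, u, v, z, h, rfl, hv, hz1, e, hgen⟩
  · refine ⟨ρ.symm, u, v, z, fpf_symm h, rfl, hv, hz1, ?_, ?_⟩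
    · rw [show ⁅u, v⁆ = ρ (ρ z) from e]
      exact ρ.injective ((h.three z).trans (ρ.apply_symm_apply z).symm)
    · have hs : ∀ w : T, ρ.symm w = (w * ρ w)⁻¹ := fun w =>
        ρ.injective (by
          rw [ρ.apply_symm_apply]
          have := h.three w
          rw [eq_inv_of_mul_eq_one_right (hop w)] at this
          exact this.symm)
      rw [eq_top_iff, ← hgen]
      refine (Subgroup.closure_le _).mpr ?_
      have hu0 : u ∈ Subgroup.closure ({u, ρ.symm u, v, ρ.symm v} : Set T) := Subgroup.subset_closure (by simp)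
      have hu1 : ρ.symm u ∈ Subgroup.closure ({u, ρ.symm u, v, ρ.symm v} : Set T) := Subgroup.subset_closure (by simp)
      have hv0 : v ∈ Subgroup.closure ({u, ρ.symm u, v, ρ.symm v} : Set T) := Subgroup.subset_closure (by simp)
      have hv1 : ρ.symm v ∈ Subgroup.closure ({u, ρ.symm u, v, ρ.symm v} : Set T) := Subgroup.subset_closure (by simp)
      intro x hx
      simp only [Set.mem_insert_iff, Set.mem_singleton_iff] at hx
      rw [SetLike.mem_coe]
      rcases hx with rfl | rfl | rfl | rfl
      · exact hu0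
      · have : ρ u = u⁻¹ * (ρ.symm u)⁻¹ := by rw [hs u]; group
        rw [this]; exact mul_mem (inv_mem hu0) (inv_mem hu1)
      · exact hv0
      · have : ρ v = v⁻¹ * (ρ.symm v)⁻¹ := by rw [hs v]; group
        rw [this]; exact mul_mem (inv_mem hv0) (inv_mem hv1)

/-- The squares and commutators of the four generators. -/
theorem Coord.table {u v z : T} (c : Coord T ρ u v z) :
    z ∈ Subgroup.center T ∧ ρ u * ρ u = ρ z ∧ ρ v * ρ v = ρ z ∧ ⁅u, ρ u⁆ = 1 ∧ ⁅v, ρ v⁆ = 1 ∧
      ⁅u, ρ v⁆ = z ∧ ⁅ρ u, v⁆ = z ∧ ⁅ρ u, ρ v⁆ = ρ (ρ z) := by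
  refine ⟨c.hu ▸ c.fpf.sq_mem_center u, by rw [← map_mul, c.hu], by rw [← map_mul, c.hv],
    c.fpf.commute_apply' u, c.fpf.commute_apply' v, ?_, ?_, ?_⟩
  · rw [(c.fpf.comm_apply_right u v).1, c.huv, c.fpf.three]
  · rw [(c.fpf.comm_apply_right u v).2, c.huv, c.fpf.three]
  · rw [← Fpf.apply_comm, c.huv]

/-- Two normalised groups are isomorphic. -/
theorem Coord.nonempty_equiv {T' : Type*} [Group T'] [Finite T'] {ρ' : MulAut T'} {u v z : T}
    {u' v' z' : T'} (c : Coord T ρ u v z) (c' : Coord T' ρ' u' v' z') : Nonempty (T ≃* T') := by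
  classical
  obtain ⟨hzc, hb2, hd2, hab, hcd, had, hbc, hbd⟩ := c.table
  obtain ⟨hzc', hb2', hd2', hab', hcd', had', hbc', hbd'⟩ := c'.table
  set a : T × T' := (u, u') with ha
  set b : T × T' := (ρ u, ρ' u') with hb
  set cc : T × T' := (v, v') with hcc
  set d : T × T' := (ρ v, ρ' v') with hd
  set e1 : T × T' := (z, z') with he1
  set e2 : T × T' := (ρ z, ρ' z') with he2
  have hEc : ∀ g : T × T', Commute e1 g ∧ Commute e2 g := fun g => by
    constructor <;> refine Prod.ext ?_ ?_
    · exact ((Subgroup.mem_center_iff.mp hzc) g.1).symm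
    · exact ((Subgroup.mem_center_iff.mp hzc') g.2).symm
    · exact ((Subgroup.mem_center_iff.mp (Fpf.apply_mem_center ρ hzc)) g.1).symm
    · exact ((Subgroup.mem_center_iff.mp (Fpf.apply_mem_center ρ' hzc')) g.2).symm
  have he11 : e1 * e1 = 1 := Prod.ext (c.fpf.inv_center hzc) (c'.fpf.inv_center hzc')
  have he22 : e2 * e2 = 1 := Prod.ext (c.fpf.inv_center (Fpf.apply_mem_center ρ hzc))
    (c'.fpf.inv_center (Fpf.apply_mem_center ρ' hzc'))
  -- the central part
  let E : Subgroup (T × T') :=
    { carrier := {g | g = 1 ∨ g = e1 ∨ g = e2 ∨ g = e1 * e2}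
      one_mem' := Or.inl rfl
      mul_mem' := by
        have h21 : e2 * e1 = e1 * e2 := ((hEc e2).1).symm.eq
        rintro x y (rfl | rfl | rfl | rfl) (rfl | rfl | rfl | rfl) <;>
          simp [he11, he22, h21, ← mul_assoc, mul_assoc e1 e2 e1, mul_assoc e1 e2 e2]
      inv_mem' := by
        have h21 : e2 * e1 = e1 * e2 := ((hEc e2).1).symm.eq
        rintro x (rfl | rfl | rfl | rfl)
        · simp
        · exact Or.inr (Or.inl (inv_eq_of_mul_eq_one_right he11))
        · exact Or.inr (Or.inr (Or.inl (inv_eq_of_mul_eq_one_right he22)))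
        · refine Or.inr (Or.inr (Or.inr (inv_eq_of_mul_eq_one_right ?_)))
          calc e1 * e2 * (e1 * e2) = e1 * (e2 * e1) * e2 := by group
            _ = e1 * e1 * (e2 * e2) := by rw [h21]; group
            _ = 1 := by rw [he11, he22, mul_one] }
  have hE1 : e1 ∈ E := Or.inr (Or.inl rfl)
  have hE2 : e2 ∈ E := Or.inr (Or.inr (Or.inl rfl))
  have hE3 : (ρ (ρ z), ρ' (ρ' z')) ∈ E := by
    rw [apply_apply_center c.fpf hzc, apply_apply_center c'.fpf hzc']
    exact Or.inr (Or.inr (Or.inr rfl))
  have hEc' : ∀ e ∈ E, ∀ g : T × T', e * g = g * e := by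
    rintro e (rfl | rfl | rfl | rfl) g
    · simp
    · exact (hEc g).1.eq
    · exact (hEc g).2.eq
    · exact ((hEc g).1.mul_left (hEc g).2).eq
  have hsq : ∀ x ∈ ({a, b, cc, d} : Set (T × T')), x * x ∈ E := by
    rintro x (rfl | rfl | rfl | rfl)
    · show (u * u, u' * u') ∈ E; rw [c.hu, c'.hu]; exact hE1
    · show (ρ u * ρ u, ρ' u' * ρ' u') ∈ E; rw [hb2, hb2']; exact hE2
    · show (v * v, v' * v') ∈ E; rw [c.hv, c'.hv]; exact hE1
    · show (ρ v * ρ v, ρ' v' * ρ' v') ∈ E; rw [hd2, hd2']; exact hE2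
  -- generators commute modulo `E`
  have hswap : ∀ x y : T × T', ⁅x, y⁆ ∈ E → ∀ e ∈ E, ∃ e' ∈ E, x * y * e = y * x * e' := fun x y h e he =>
    ⟨⁅x, y⁆ * e, mul_mem h he, by
      rw [← mul_assoc (y * x), ← hEc' _ h (y * x), commutatorElement_def]; group⟩
  have hba : ⁅b, a⁆ ∈ E := by
    rw [← commutatorElement_inv a b, show ⁅a, b⁆ = (1, 1) from Prod.ext hab hab']
    exact inv_mem (one_mem E)
  have hca : ⁅cc, a⁆ ∈ E := by
    rw [← commutatorElement_inv a cc, show ⁅a, cc⁆ = e2 from Prod.ext c.huv c'.huv]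
    exact inv_mem hE2
  have hda : ⁅d, a⁆ ∈ E := by
    rw [← commutatorElement_inv a d, show ⁅a, d⁆ = e1 from Prod.ext had had']
    exact inv_mem hE1
  have hcb : ⁅cc, b⁆ ∈ E := by
    rw [← commutatorElement_inv b cc, show ⁅b, cc⁆ = e1 from Prod.ext hbc hbc']
    exact inv_mem hE1
  have hdb : ⁅d, b⁆ ∈ E := by
    rw [← commutatorElement_inv b d, show ⁅b, d⁆ = (ρ (ρ z), ρ' (ρ' z')) from Prod.ext hbd hbd']
    exact inv_mem hE3
  have hdc : ⁅d, cc⁆ ∈ E := by
    rw [← commutatorElement_inv cc d, show ⁅cc, d⁆ = (1, 1) from Prod.ext hcd hcd']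
    exact inv_mem (one_mem E)
  -- the words
  let w : Bool × Bool × Bool × Bool → T × T' := fun p =>
    (if p.1 then a else 1) * (if p.2.1 then b else 1) * (if p.2.2.1 then cc else 1) *
      (if p.2.2.2 then d else 1)
  let S : Set (T × T') := {g | ∃ p, ∃ e ∈ E, g = w p * e}
  have hSE : ∀ g ∈ S, ∀ e ∈ E, g * e ∈ S := by
    rintro g ⟨p, e0, he0, rfl⟩ e he
    exact ⟨p, e0 * e, mul_mem he0 he, mul_assoc _ _ _⟩
  have hmove : ∀ (x y : T × T'), ⁅x, y⁆ ∈ E → ∀ (i : Bool), ∃ e ∈ E,
      (if i then x else 1) * y = y * (if i then x else 1) * e := by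
    intro x y hxy i
    cases i
    · exact ⟨1, one_mem E, by simp⟩
    · obtain ⟨e', he', h⟩ := hswap x y hxy 1 (one_mem E)
      exact ⟨e', he', by simpa using h⟩
  have hflip : ∀ x ∈ ({a, b, cc, d} : Set (T × T')), ∀ (i : Bool), ∃ e ∈ E,
      (if i then x else 1) * x = (if !i then x else 1) * e := by
    intro x hx i
    cases i
    · exact ⟨1, one_mem E, by simp⟩
    · exact ⟨x * x, hsq x hx, by simp⟩
  have hright : ∀ g ∈ S, ∀ x ∈ ({a, b, cc, d} : Set (T × T')), g * x ∈ S := by
    rintro g ⟨⟨i, j, k, l⟩, e, he, rfl⟩ x hx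
    rw [mul_assoc (w _), hEc' e he x, ← mul_assoc]
    refine hSE _ ?_ e he
    show _ * x ∈ S
    simp only [w]
    generalize hA : (if i then a else 1) = A
    generalize hB : (if j then b else 1) = B
    generalize hC : (if k then cc else 1) = C
    generalize hD : (if l then d else 1) = D
    rcases hx with rfl | rfl | rfl | rfl
    · obtain ⟨e1', h1m, h1⟩ := hmove d a hda l
      obtain ⟨e2', h2m, h2⟩ := hmove cc a hca k
      obtain ⟨e3', h3m, h3⟩ := hmove b a hba j
      obtain ⟨e4', h4m, h4⟩ := hflip a (by simp) i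
      refine ⟨(!i, j, k, l), e4' * e3' * e2' * e1', mul_mem (mul_mem (mul_mem h4m h3m) h2m) h1m, ?_⟩
      rw [hB] at h3; rw [hC] at h2; rw [hD] at h1; rw [hA] at h4
      simp only [w, hB, hC, hD]
      calc A * B * C * D * a = A * B * C * (D * a) := by group
        _ = A * B * (C * a) * D * e1' := by rw [h1]; group
        _ = A * (B * a) * C * (e2' * D) * e1' := by rw [h2]; group
        _ = A * a * B * (e3' * C) * (e2' * D) * e1' := by rw [h3]; group
        _ = A * a * B * C * (e3' * D) * e2' * e1' := by rw [hEc' e2' h2m, hEc' e3' h3m C]; group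
        _ = (if !i then a else 1) * (e4' * (B * C * D)) * e3' * e2' * e1' := by
            rw [hEc' e3' h3m D, h4]; group
        _ = _ := by rw [hEc' e4' h4m]; group
    · obtain ⟨e1', h1m, h1⟩ := hmove d b hdb l
      obtain ⟨e2', h2m, h2⟩ := hmove cc b hcb k
      obtain ⟨e4', h4m, h4⟩ := hflip b (by simp) j
      refine ⟨(i, !j, k, l), e4' * e2' * e1', mul_mem (mul_mem h4m h2m) h1m, ?_⟩
      rw [hC] at h2; rw [hD] at h1; rw [hB] at h4
      simp only [w, hA, hC, hD]
      calc A * B * C * D * b = A * B * C * (D * b) := by group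
        _ = A * B * (C * b) * D * e1' := by rw [h1]; group
        _ = A * (B * b) * C * (e2' * D) * e1' := by rw [h2]; group
        _ = A * (if !j then b else 1) * (e4' * (C * D)) * e2' * e1' := by
            rw [hEc' e2' h2m, h4]; group
        _ = _ := by rw [hEc' e4' h4m]; group
    · obtain ⟨e1', h1m, h1⟩ := hmove d cc hdc l
      obtain ⟨e4', h4m, h4⟩ := hflip cc (by simp) k
      refine ⟨(i, j, !k, l), e4' * e1', mul_mem h4m h1m, ?_⟩
      rw [hD] at h1; rw [hC] at h4
      simp only [w, hA, hB, hD]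
      calc A * B * C * D * cc = A * B * C * (D * cc) := by group
        _ = A * B * (C * cc) * D * e1' := by rw [h1]; group
        _ = A * B * (if !k then cc else 1) * (e4' * D) * e1' := by rw [h4]; group
        _ = _ := by rw [hEc' e4' h4m]; group
    · obtain ⟨e4', h4m, h4⟩ := hflip d (by simp) l
      refine ⟨(i, j, k, !l), e4', h4m, ?_⟩
      rw [hD] at h4
      simp only [w, hA, hB, hC]
      calc A * B * C * D * d = A * B * C * (D * d) := by group
        _ = _ := by rw [h4]; group
  set D : Subgroup (T × T') := Subgroup.closure {a, b, cc, d} with hD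
  have hDS : ∀ g ∈ D, g ∈ S := by
    intro g hg
    have hg' : g ∈ Submonoid.closure ({a, b, cc, d} : Set (T × T')) := by
      rw [← Subgroup.closure_toSubmonoid_of_finite]; exact hg
    induction hg' using Submonoid.closure_induction_right with
    | one => exact ⟨(false, false, false, false), 1, one_mem E, by simp [w]⟩
    | mul_right x hx y hy ih =>
      exact hright x (ih (by
        show x ∈ Subgroup.closure _
        exact Submonoid.closure_le.mpr (fun t ht => Subgroup.subset_closure ht) hx)) y hy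
  have hcard : Nat.card D ≤ 64 := by
    have hE4 : Nat.card E ≤ 4 := by
      have hsub : (E : Set (T × T')) ⊆ (({1, e1, e2, e1 * e2} : Finset (T × T')) : Set (T × T')) := by
        rintro x (rfl | rfl | rfl | rfl) <;> simp
      refine (Nat.card_mono (Finset.finite_toSet _) hsub).trans ?_
      rw [Nat.card_coe_set_eq, Set.ncard_coe_finset]
      exact Finset.card_le_four
    refine (Nat.card_le_card_of_surjective
      (fun q : (Bool × Bool × Bool × Bool) × E => if h : w q.1 * q.2 ∈ D then (⟨_, h⟩ : D) else 1)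
      ?_).trans ?_
    · rintro ⟨g, hg⟩
      obtain ⟨p, e, he, rfl⟩ := hDS g hg
      exact ⟨(p, ⟨e, he⟩), dif_pos hg⟩
    · rw [Nat.card_prod, Nat.card_eq_fintype_card (α := Bool × Bool × Bool × Bool)]
      calc 16 * Nat.card E ≤ 16 * 4 := Nat.mul_le_mul_left _ hE4
        _ = 64 := rfl
  -- both projections are bijective
  have hsurj1 : Function.Surjective ((MonoidHom.fst T T').comp D.subtype) := by
    rw [← MonoidHom.range_eq_top, MonoidHom.range_comp, Subgroup.range_subtype, hD,
      MonoidHom.map_closure, eq_top_iff, ← c.gen]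
    refine Subgroup.closure_mono ?_
    intro x hx
    simp only [Set.image_insert_eq, Set.image_singleton]
    exact hx
  have hsurj2 : Function.Surjective ((MonoidHom.snd T T').comp D.subtype) := by
    rw [← MonoidHom.range_eq_top, MonoidHom.range_comp, Subgroup.range_subtype, hD,
      MonoidHom.map_closure, eq_top_iff, ← c'.gen]
    refine Subgroup.closure_mono ?_
    intro x hx
    simp only [Set.image_insert_eq, Set.image_singleton]
    exact hx
  have h1 : Function.Bijective ((MonoidHom.fst T T').comp D.subtype) :=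
    (Nat.bijective_iff_surjective_and_card _).mpr ⟨hsurj1,
      le_antisymm (hcard.trans c.fpf.card.ge) (Nat.card_le_card_of_surjective _ hsurj1)⟩
  have h2 : Function.Bijective ((MonoidHom.snd T T').comp D.subtype) :=
    (Nat.bijective_iff_surjective_and_card _).mpr ⟨hsurj2,
      le_antisymm (hcard.trans c'.fpf.card.ge) (Nat.card_le_card_of_surjective _ hsurj2)⟩
  exact ⟨(MulEquiv.ofBijective _ h1).symm.trans (MulEquiv.ofBijective _ h2)⟩

/-- The group of order 64 of type `U₃(4)` is unique. -/
theorem nonempty_equiv_of_fpf {T' : Type*} [Group T'] [Finite T'] {ρ' : MulAut T'} (h : Fpf T ρ)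
    (hinv : ∀ y : T, y * y = 1 → y ∈ Subgroup.center T) (h' : Fpf T' ρ')
    (hinv' : ∀ y : T', y * y = 1 → y ∈ Subgroup.center T') : Nonempty (T ≃* T') := by
  obtain ⟨σ, u, v, z, c⟩ := exists_coord h hinv
  obtain ⟨σ', u', v', z', c'⟩ := exists_coord h' hinv'
  exact c.nonempty_equiv c'

end Cfsg.Agent.HigmanRankTwo
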