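import Cfsg.Agent.S1248
import Cfsg.Agent.Lib.HigmanRankTwo.Unique

/-!
An automorphism of order 3 of the Sylow 2-subgroup of `PSU₃(4)`, and the recognition.
-/

set_option autoImplicit false
set_option linter.style.haveILetI false

namespace Cfsg.Agent.HigmanRankTwo

open Cfsg.Agent.Unital16 Cfsg.Agent.SylL34

theorem exists_omega : ∃ w : K16, w ^ 3 = 1 ∧ w ≠ 1 := by decide +kernel

theorem syl_fpf : ∃ ρ : MulAut U34.syl, Fpf U34.syl ρ := by
  obtain ⟨w, h3, h1⟩ := exists_omega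
  let f : {p : K16 × K16 // U34.cond p} → {p : K16 × K16 // U34.cond p} := fun p =>
    ⟨(w * p.1.1, w ^ 5 * p.1.2), by
      have hp : p.1.2 + p.1.2 ^ 4 = p.1.1 ^ 5 := p.2
      show w ^ 5 * p.1.2 + (w ^ 5 * p.1.2) ^ 4 = (w * p.1.1) ^ 5
      have h20 : (w ^ 5) ^ 4 = w ^ 5 := by linear_combination (w ^ 5) * (w ^ 12 + w ^ 9 + w ^ 6 + w ^ 3 + 1) * h3
      rw [mul_pow, mul_pow, h20, ← mul_add, hp]⟩
  have hf3 : ∀ p, f (f (f p)) = p := fun p => by
    refine Subtype.ext (Prod.ext ?_ ?_)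
    · show w * (w * (w * p.1.1)) = p.1.1
      linear_combination p.1.1 * h3
    · show w ^ 5 * (w ^ 5 * (w ^ 5 * p.1.2)) = p.1.2
      linear_combination p.1.2 * (w ^ 12 + w ^ 9 + w ^ 6 + w ^ 3 + 1) * h3
  have hfm : ∀ p q, f (U34.prod p q) = U34.prod (f p) (f q) := fun p q => by
    refine Subtype.ext (Prod.ext ?_ ?_)
    · show w * (p.1.1 + q.1.1) = w * p.1.1 + w * q.1.1
      ring
    · show w ^ 5 * (p.1.2 + q.1.2 + p.1.1 ^ 4 * q.1.1) =
        w ^ 5 * p.1.2 + w ^ 5 * q.1.2 + (w * p.1.1) ^ 4 * (w * q.1.1)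
      ring
  let F : U34.syl → U34.syl := fun g => U34.param (f (U34.param.symm g))
  let ρ : MulAut U34.syl :=
    { toFun := F
      invFun := fun g => F (F g)
      left_inv := fun g => by simp [F, hf3]
      right_inv := fun g => by simp [F, hf3]
      map_mul' := fun a b => by
        obtain ⟨p, rfl⟩ := U34.param.surjective a
        obtain ⟨q, rfl⟩ := U34.param.surjective b
        simp only [F, U34.param_prod, Equiv.symm_apply_apply, hfm] }
  refine ⟨ρ, props_syl.card, props_syl.nonab, fun g => ?_, fun g hg => ?_⟩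
  · show F (F (F g)) = g
    simp [F, hf3]
  · obtain ⟨p, rfl⟩ := U34.param.surjective g
    have h : U34.param (f (U34.param.symm (U34.param p))) = U34.param p := hg
    rw [Equiv.symm_apply_apply, U34.param.injective.eq_iff, Subtype.ext_iff] at h
    have ha : w * p.1.1 = p.1.1 := congrArg Prod.fst h
    have hb : w ^ 5 * p.1.2 = p.1.2 := congrArg Prod.snd h
    have hw2 : w ^ 5 ≠ 1 := fun e => h1 (by linear_combination (-w) * e + (w ^ 3 + 1) * h3)
    have ha0 : p.1.1 = 0 := by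
      by_contra hne
      exact h1 (mul_eq_right₀ hne |>.mp ha)
    have hb0 : p.1.2 = 0 := by
      by_contra hne
      exact hw2 (mul_eq_right₀ hne |>.mp hb)
    rw [← U34.param_one]
    exact congrArg _ (Subtype.ext (Prod.ext ha0 hb0))

/-- Recognition of the Sylow 2-subgroup of `PSU₃(4)`. -/
theorem equiv_syl_of_fpf {T : Type*} [Group T] [Finite T] {ρ : MulAut T} (h : Fpf T ρ)
    (hinv : ∀ y : T, y * y = 1 → y ∈ Subgroup.center T) {F : Type*} [Field F] [Fintype F]
    (hF : Fintype.card F = 16) (S : Sylow 2 (Cfsg.PSU 3 F 4)) :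
    Nonempty (T ≃* ↥(S : Subgroup (Cfsg.PSU 3 F 4))) := by
  obtain ⟨σ, hσ⟩ := syl_fpf
  obtain ⟨e⟩ := nonempty_equiv_of_fpf h hinv hσ props_syl.central
  obtain ⟨e'⟩ := S1248.equiv_syl hF S
  exact ⟨e.trans e'.symm⟩

end Cfsg.Agent.HigmanRankTwo
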