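import Cfsg.Agent.Lib.HigmanRankTwo.OrderThree

/-!
The structure theorem: homocyclic, or of order 64.
-/

set_option autoImplicit false
set_option linter.style.haveILetI false
set_option linter.unusedSectionVars false

namespace Cfsg.Agent.HigmanRankTwo

open Cfsg.Agent.SylL34
open scoped commutatorElement

variable {T : Type*} [Group T] [Finite T] {ψ : MulAut T} {V : Subgroup T}

/-- A power outside `A` whose square is inside. -/
theorem exists_pow_outside (hT : IsPGroup 2 T) {A : Subgroup T} {g : T} (hg : g ∉ A) :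
    ∃ i : ℕ, g ^ 2 ^ i ∉ A ∧ g ^ 2 ^ (i + 1) ∈ A := by
  by_contra hc
  push Not at hc
  have hall : ∀ i : ℕ, g ^ 2 ^ i ∉ A := fun i => by
    induction i with
    | zero => simpa using hg
    | succ i ih => exact hc i ih
  obtain ⟨k, hk⟩ := hT g
  exact hall k (by rw [hk]; exact one_mem A)

namespace ThreeInv

theorem pow_three_eq_one (h : ThreeInv T ψ V) : ψ ^ 3 = 1 := by
  obtain ⟨A, hA⟩ := h.exists_maxAb
  haveI := hA.normal
  obtain ⟨k, hk⟩ := h.period
  have hstep : ∀ j, ψ ^ 3 ^ (j + 2) = 1 → ψ ^ 3 ^ (j + 1) = 1 := by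
    intro j hj
    set σ := ψ ^ 3 ^ (j + 1) with hσ
    have h3 : σ ^ 3 = 1 := by rw [hσ, ← pow_mul, ← pow_succ]; exact hj
    have hσA : ∀ a ∈ A, σ a = a := h.fix_abelian σ A hA.comm (h.apply_mem_inv A hA.stable _)
      (fun v hv => h.pow_fix j hv) fun a _ => by rw [h3]; rfl
    refine MulEquiv.ext fun g => ?_
    have hd : g⁻¹ * σ g ∈ A := by
      refine h.centralizer_le hA (Subgroup.mem_centralizer_iff.mpr fun a ha => ?_)
      have hc := hσA _ (hA.normal.conj_mem a ha g)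
      rw [map_mul, map_mul, map_inv, hσA a ha] at hc
      calc a * (g⁻¹ * σ g) = g⁻¹ * (g * a * g⁻¹) * σ g := by group
        _ = g⁻¹ * (σ g * a * (σ g)⁻¹) * σ g := by rw [hc]
        _ = g⁻¹ * σ g * a := by group
    exact h.fix_of_moved σ (hσA _ hd) (by rw [h3]; rfl)
  have := HigmanRankTwo.descend (fun j => ψ ^ 3 ^ j = 1)
    (by rw [pow_succ, pow_mul, hk, one_pow]) hstep (k := k)
  rwa [pow_one] at this

/-- **Higman, rank two**: homocyclic, or of order 64. -/
theorem structure_theorem (h : ThreeInv T ψ V) :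
    (∃ n : ℕ, 1 ≤ n ∧ Nonempty (T ≃* Multiplicative (ZMod (2 ^ n) × ZMod (2 ^ n)))) ∨
      (Fpf T ψ ∧ ∀ y : T, y * y = 1 → y ∈ Subgroup.center T) := by
  classical
  haveI : Fact (Nat.Prime 2) := ⟨Nat.prime_two⟩
  have h3p := h.pow_three_eq_one
  have h3 : ∀ y, ψ (ψ (ψ y)) = y := fun y => by
    have := congrArg (fun φ : MulAut T => φ y) h3p
    simpa [pow_succ, MulAut.mul_apply] using this
  obtain ⟨A, hA⟩ := h.exists_maxAb
  haveI := hA.normal
  have hcent := h.centralizer_le hA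
  have hAcomm : ∀ a ∈ A, ∀ b ∈ A, a * b = b * a := fun a ha b hb =>
    congrArg Subtype.val (hA.comm.is_comm.comm ⟨a, ha⟩ ⟨b, hb⟩)
  letI : CommGroup A := { (inferInstance : Group A) with mul_comm := hA.comm.is_comm.comm }
  let ψA : MulAut A :=
    { toFun := fun a => ⟨ψ a, hA.stable a a.2⟩
      invFun := fun a => ⟨ψ (ψ a), hA.stable _ (hA.stable a a.2)⟩
      left_inv := fun a => Subtype.ext (h3 a)
      right_inv := fun a => Subtype.ext (h3 a)
      map_mul' := fun a b => Subtype.ext (map_mul ψ (a : T) b) }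
  have hψA : ∀ a : A, ((ψA a : A) : T) = ψ a := fun a => rfl
  obtain ⟨n, hn⟩ := homocyclic ψA (h.pgroup.to_subgroup A) (by
      rw [← h.card]
      exact Nat.card_congr
        { toFun := fun a => ⟨a.1, (h.inv _).mp (congrArg Subtype.val a.2)⟩
          invFun := fun v => ⟨⟨v, hA.le v.2⟩, Subtype.ext ((h.inv _).mpr v.2)⟩
          left_inv := fun a => rfl
          right_inv := fun v => rfl })
    (fun a ha => Subtype.ext (h.move a (congrArg Subtype.val ha)))
  by_cases hAT : A = ⊤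
  · obtain ⟨e⟩ := hn.iso
    exact Or.inl ⟨n, hn.pos,
      ⟨((MulEquiv.subgroupCongr hAT).trans Subgroup.topEquiv).symm.trans e⟩⟩
  right
  have hexp : ∀ a ∈ A, a ^ 2 ^ n = 1 := fun a ha => by
    have h1 := congrArg Subtype.val (hn.exp ⟨a, ha⟩)
    simpa using h1
  have hn2 : 2 ≤ n := by
    by_contra hn'
    have hn1 : n = 1 := by have := hn.pos; omega
    subst hn1
    refine hAT (eq_top_iff.mpr fun g _ => hcent (Subgroup.mem_centralizer_iff.mpr fun a ha => ?_))
    have h1 := hexp a ha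
    rw [pow_one, sq] at h1
    exact (Subgroup.mem_center_iff.mp (h.central ((h.inv a).mp h1)) g).symm
  have hengel : ∀ x g : T, Commute x ⁅x, g⁆ := commute_commutator h3 h.move
  have hAn : ∀ (t : T), ∀ a ∈ A, ⁅t, a⁆ ∈ A := fun t a ha =>
    mul_mem (hA.normal.conj_mem a ha t) (inv_mem ha)
  have hdelta : ∀ t : T, t * t ∈ A → ∀ a ∈ A, ⁅t, a⁆ ∈ V := by
    intro t ht a ha
    have h1 : ⁅t * t, a⁆ = 1 := commutatorElement_eq_one_iff_mul_comm.mpr (hAcomm _ ht a ha)
    have h2 : ⁅t * t, a⁆ = t * ⁅t, a⁆ * t⁻¹ * ⁅t, a⁆ := by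
      simp only [commutatorElement_def]; group
    rw [h1, (hengel t a).eq, mul_inv_cancel_right] at h2
    exact (h.inv _).mp h2.symm
  have hsqcomm : ∀ t : T, t * t ∈ A → ∀ b ∈ A, ⁅t, b * b⁆ = 1 := by
    intro t ht b hb
    have hz := fun g => Subgroup.mem_center_iff.mp (h.central (hdelta t ht b hb)) g
    calc ⁅t, b * b⁆ = ⁅t, b⁆ * (b * ⁅t, b⁆ * b⁻¹) := by simp only [commutatorElement_def]; group
      _ = ⁅t, b⁆ * ⁅t, b⁆ := by rw [hz b, mul_inv_cancel_right]
      _ = 1 := (h.inv _).mpr (hdelta t ht b hb)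
  -- centralised elements of `A` are squares
  have hsq : ∀ t : T, t * t ∈ A → t ∉ A → ∀ a ∈ A, ⁅t, a⁆ = 1 → ∃ b ∈ A, b * b = a := by
    intro t ht htA a ha hta
    by_contra hnot
    push Not at hnot
    have htψ : Commute t (ψ t) := SylL34.commute_apply h3 h.move t
    have haψ : Commute a (ψ a) := hAcomm a ha _ (hA.stable a ha)
    have hψt : ψ t * ψ t ∈ A := by rw [← map_mul]; exact hA.stable _ ht
    have he : ⁅t, ψ a⁆ ∈ V := hdelta t ht _ (hA.stable a ha)
    have he' : ⁅ψ t, a⁆ ∈ V := hdelta _ hψt a ha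
    -- the symmetry
    have hsym : ⁅t, ψ a⁆ = ⁅ψ t, a⁆ := by
      have hc : t * a * (ψ t * ψ a) = ψ t * ψ a * (t * a) := by
        have := (SylL34.commute_apply h3 h.move (t * a)).eq
        rwa [map_mul] at this
      have z1 := fun g => Subgroup.mem_center_iff.mp (h.central he) g
      have z2 := fun g => Subgroup.mem_center_iff.mp (h.central he') g
      have e1 : a * ψ t = ⁅ψ t, a⁆⁻¹ * (ψ t * a) := by rw [commutatorElement_def]; group
      have e2 : ψ a * t = ⁅t, ψ a⁆⁻¹ * (t * ψ a) := by rw [commutatorElement_def]; group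
      have z1' : ∀ g : T, g * ⁅t, ψ a⁆⁻¹ = ⁅t, ψ a⁆⁻¹ * g :=
        fun g => ((Commute.inv_right (show Commute g ⁅t, ψ a⁆ from z1 g))).eq
      have z2' : ∀ g : T, g * ⁅ψ t, a⁆⁻¹ = ⁅ψ t, a⁆⁻¹ * g :=
        fun g => ((Commute.inv_right (show Commute g ⁅ψ t, a⁆ from z2 g))).eq
      have hl : t * a * (ψ t * ψ a) = ⁅ψ t, a⁆⁻¹ * (t * ψ t * (a * ψ a)) := by
        calc t * a * (ψ t * ψ a) = t * (a * ψ t) * ψ a := by group
          _ = t * ⁅ψ t, a⁆⁻¹ * (ψ t * a * ψ a) := by rw [e1]; group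
          _ = _ := by rw [z2' t]; group
      have hr : ψ t * ψ a * (t * a) = ⁅t, ψ a⁆⁻¹ * (t * ψ t * (a * ψ a)) := by
        calc ψ t * ψ a * (t * a) = ψ t * (ψ a * t) * a := by group
          _ = ψ t * ⁅t, ψ a⁆⁻¹ * (t * ψ a * a) := by rw [e2]; group
          _ = ⁅t, ψ a⁆⁻¹ * ((ψ t * t) * (ψ a * a)) := by rw [z1' (ψ t)]; group
          _ = _ := by rw [← htψ.eq, ← haψ.eq]
      rw [hl, hr] at hc
      exact (inv_injective (mul_right_cancel hc)).symm
    -- it is fixed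
    have hfix : ψ ⁅t, ψ a⁆ = ⁅t, ψ a⁆ := by
      have hψ0 : ⁅ψ t, ψ a⁆ = 1 := by
        have := congrArg ψ hta
        rwa [map_one, show ψ ⁅t, a⁆ = ⁅ψ t, ψ a⁆ from map_commutatorElement ψ.toMonoidHom t a] at this
      have hψψ : ψ (ψ a) = (a * ψ a)⁻¹ := eq_inv_of_mul_eq_one_right (orbit_prod h3 h.move a)
      have hb : ⁅ψ t, a * ψ a⁆ = ⁅ψ t, a⁆ := by
        calc ⁅ψ t, a * ψ a⁆ = ⁅ψ t, a⁆ * (a * ⁅ψ t, ψ a⁆ * a⁻¹) := by
              simp only [commutatorElement_def]; group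
          _ = ⁅ψ t, a⁆ := by rw [hψ0, mul_one, mul_inv_cancel, mul_one]
      have hbi : ⁅ψ t, (a * ψ a)⁻¹⁆ = ⁅ψ t, a * ψ a⁆⁻¹ := by
        have hz := fun g => Subgroup.mem_center_iff.mp (h.central (hb ▸ he' : ⁅ψ t, a * ψ a⁆ ∈ V)) g
        refine eq_inv_of_mul_eq_one_left ?_
        calc ⁅ψ t, (a * ψ a)⁻¹⁆ * ⁅ψ t, a * ψ a⁆
            = (ψ t * (a * ψ a)⁻¹ * (ψ t)⁻¹) * ((a * ψ a) * ⁅ψ t, a * ψ a⁆) := by
              simp only [commutatorElement_def]; group
          _ = (ψ t * (a * ψ a)⁻¹ * (ψ t)⁻¹) * (⁅ψ t, a * ψ a⁆ * (a * ψ a)) := by rw [hz (a * ψ a)]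
          _ = 1 := by simp only [commutatorElement_def]; group
      rw [show ψ ⁅t, ψ a⁆ = ⁅ψ t, ψ (ψ a)⁆ from map_commutatorElement ψ.toMonoidHom t (ψ a),
        hψψ, hbi, hb, hsym]
      exact inv_eq_of_mul_eq_one_left ((h.inv _).mpr he')
    have hta' : ⁅t, ψ a⁆ = 1 := h.move _ hfix
    refine htA (hcent (Subgroup.mem_centralizer_iff.mpr fun x hx => ?_))
    obtain ⟨i, j, hij⟩ := hn.gen ⟨a, ha⟩ (fun b hb => hnot b b.2 (congrArg Subtype.val hb)) ⟨x, hx⟩
    have hx' : x = a ^ i * ψ a ^ j := by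
      have := congrArg Subtype.val hij
      simpa [hψA] using this
    rw [hx']
    have c1 : Commute t a := commutatorElement_eq_one_iff_mul_comm.mp hta
    have c2 : Commute t (ψ a) := commutatorElement_eq_one_iff_mul_comm.mp hta'
    exact ((c1.zpow_right i).mul_right (c2.zpow_right j)).eq.symm
  -- `n = 2`
  obtain ⟨g, -, hgA⟩ := SetLike.exists_of_lt (lt_top_iff_ne_top.mpr hAT)
  have hn3 : n = 2 := by
    by_contra hne
    have hn3 : 3 ≤ n := by omega
    obtain ⟨i, hi, hi'⟩ := exists_pow_outside h.pgroup hgA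
    set t := g ^ 2 ^ i with ht
    have htt : t * t ∈ A := by rw [ht, ← pow_add, ← two_mul, ← pow_succ']; exact hi'
    obtain ⟨b, hb, hb2⟩ := hsq t htt hi _ htt (commutatorElement_eq_one_iff_mul_comm.mpr
      (mul_assoc t t t).symm)
    have hcV : ⁅t, b⁻¹⁆ ∈ V := hdelta t htt _ (inv_mem hb)
    set c := ⁅t, b⁻¹⁆ with hc
    have hcc : c * c = 1 := (h.inv _).mpr hcV
    have hu : (t * b⁻¹) * (t * b⁻¹) = c := by
      have z := fun g => Subgroup.mem_center_iff.mp (h.central hcV) g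
      have e : b⁻¹ * t = c⁻¹ * (t * b⁻¹) := by rw [hc, commutatorElement_def]; group
      calc (t * b⁻¹) * (t * b⁻¹) = t * (b⁻¹ * t) * b⁻¹ := by group
        _ = t * c⁻¹ * (t * (b * b)⁻¹ ) := by rw [e]; group
        _ = c⁻¹ * t * (t * (t * t)⁻¹) := by
            rw [hb2, (Commute.inv_right (show Commute t c from z t)).eq]
        _ = c := by rw [show c⁻¹ = c from inv_eq_of_mul_eq_one_left hcc]; group
    -- `c` is the square of a square
    obtain ⟨w, hw, hwc⟩ : ∃ w ∈ A, w * w = c ∧ (∃ r ∈ A, r * r = w) := by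
      obtain ⟨e⟩ := hn.iso
      set p := Multiplicative.toAdd (e ⟨c, hA.le hcV⟩) with hp
      have h2p : p + p = 0 := by
        rw [hp, ← toAdd_mul, ← map_mul, show (⟨c, hA.le hcV⟩ : A) * ⟨c, hA.le hcV⟩ = 1 from
          Subtype.ext hcc, map_one, toAdd_one]
      have hdiv : ∀ z : ZMod (2 ^ n), z + z = 0 → ∃ r : ZMod (2 ^ n), (r + r) + (r + r) = z := by
        intro z hz
        have hzv : 2 ^ n ∣ z.val + z.val := by
          refine (ZMod.natCast_eq_zero_iff _ _).mp ?_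
          push_cast; rwa [ZMod.natCast_zmod_val]
        have h4 : 4 ∣ z.val := by
          have : 2 ^ 3 ∣ z.val + z.val := (pow_dvd_pow 2 hn3).trans hzv
          omega
        refine ⟨(z.val / 4 : ℕ), ?_⟩
        rw [← Nat.cast_add, ← Nat.cast_add, show z.val / 4 + z.val / 4 + (z.val / 4 + z.val / 4) = z.val
          by omega, ZMod.natCast_zmod_val]
      obtain ⟨r1, hr1⟩ := hdiv p.1 (by rw [← Prod.fst_add, h2p]; rfl)
      obtain ⟨r2, hr2⟩ := hdiv p.2 (by rw [← Prod.snd_add, h2p]; rfl)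
      set r := e.symm (Multiplicative.ofAdd (r1, r2)) with hr
      refine ⟨((r * r : A) : T), (r * r : A).2, ?_, (r : T), r.2, rfl⟩
      have : r * r * (r * r) = (⟨c, hA.le hcV⟩ : A) := by
        apply e.injective
        simp only [map_mul, hr, e.apply_symm_apply, ← ofAdd_add]
        exact congrArg Multiplicative.ofAdd (Prod.ext hr1 hr2 :
          (r1, r2) + (r1, r2) + ((r1, r2) + (r1, r2)) = p)
      exact congrArg Subtype.val this
    obtain ⟨hwc, r, hr, hrw⟩ := hwc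
    have htw : Commute t w := by
      rw [← hrw]; exact commutatorElement_eq_one_iff_mul_comm.mp (hsqcomm t htt r hr)
    have huw : Commute (t * b⁻¹) w :=
      htw.mul_left (Commute.inv_left (hAcomm b hb w hw))
    have h1 : (t * b⁻¹ * w) * (t * b⁻¹ * w) = 1 := by
      rw [show (t * b⁻¹ * w) * (t * b⁻¹ * w) = (t * b⁻¹) * (w * (t * b⁻¹)) * w by group, ← huw.eq,
        show (t * b⁻¹) * ((t * b⁻¹) * w) * w = ((t * b⁻¹) * (t * b⁻¹)) * (w * w) by group, hu, hwc,
        hcc]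
    have h2 : t * b⁻¹ * w ∈ A := hA.le ((h.inv _).mp h1)
    refine hi ?_
    have := mul_mem (mul_mem h2 (inv_mem hw)) hb
    rwa [mul_inv_cancel_right, inv_mul_cancel_right] at this
  subst hn3
  have h4A : ∀ a ∈ A, a * a * (a * a) = 1 := fun a ha => by
    rw [← hexp a ha, show (2 : ℕ) ^ 2 = 2 + 2 from rfl, pow_add, sq]
  -- exponent two over `A`
  have hex2 : ∀ x : T, x * x ∈ A := by
    intro x
    by_contra hx
    obtain ⟨i, hi, hi'⟩ := exists_pow_outside h.pgroup hx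
    set y := x ^ 2 ^ i with hy
    have hs : (x * x) ^ 2 ^ i = y * y := by rw [hy, (Commute.refl x).mul_pow]
    rw [hs] at hi
    have hyy : y * y * (y * y) ∈ A := by
      rw [← hs, ← pow_add, ← two_mul, ← pow_succ']; exact hi'
    refine hi (hcent (Subgroup.mem_centralizer_iff.mpr fun a ha => ?_))
    have hyc : Commute y ⁅y, a⁆ := hengel y a
    have hcA : ⁅y, a⁆ ∈ A := hAn y a ha
    obtain ⟨b, hb, hbc⟩ := hsq (y * y) hyy hi _ hcA
      (commutatorElement_eq_one_iff_mul_comm.mpr (hyc.mul_left hyc).eq)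
    have hc2 : ⁅y, a⁆ * ⁅y, a⁆ = 1 := by rw [← hbc]; exact h4A b hb
    have : ⁅y * y, a⁆ = 1 := by
      calc ⁅y * y, a⁆ = y * ⁅y, a⁆ * y⁻¹ * ⁅y, a⁆ := by simp only [commutatorElement_def]; group
        _ = 1 := by rw [hyc.eq, mul_inv_cancel_right, hc2]
    exact (commutatorElement_eq_one_iff_mul_comm.mp this).symm
  -- the order
  obtain ⟨a₁, ha₁, ha₁'⟩ : ∃ a ∈ A, ∀ b ∈ A, b * b ≠ a := by
    by_contra hall
    push Not at hall
    have hsurj : Function.Surjective (fun b : A => b * b) := fun a => by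
      obtain ⟨b, hb, hba⟩ := hall a a.2
      exact ⟨⟨b, hb⟩, Subtype.ext hba⟩
    have hinj := Finite.injective_iff_surjective.mpr hsurj
    obtain ⟨v, hv, hv1⟩ : ∃ v ∈ V, v ≠ 1 := by
      by_contra hc
      push Not at hc
      have := Subgroup.card_eq_one.mpr ((Subgroup.eq_bot_iff_forall _).mpr hc)
      rw [h.card] at this; omega
    refine hv1 (congrArg Subtype.val (hinj (a₁ := ⟨v, hA.le hv⟩) (a₂ := 1) (Subtype.ext ?_)))
    show v * v = 1 * 1
    rw [(h.inv v).mpr hv, mul_one]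
  let δ : T →* V :=
    { toFun := fun t => ⟨⁅t, a₁⁆, hdelta t (hex2 t) a₁ ha₁⟩
      map_one' := Subtype.ext (commutatorElement_one_left a₁)
      map_mul' := fun s t => Subtype.ext (by
        show ⁅s * t, a₁⁆ = ⁅s, a₁⁆ * ⁅t, a₁⁆
        rw [show ⁅s * t, a₁⁆ = s * ⁅t, a₁⁆ * s⁻¹ * ⁅s, a₁⁆ by simp only [commutatorElement_def]; group,
          Subgroup.mem_center_iff.mp (h.central (hdelta t (hex2 t) a₁ ha₁)) s, mul_inv_cancel_right,
          Subgroup.mem_center_iff.mp (h.central (hdelta s (hex2 s) a₁ ha₁))]) }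
  have hker : δ.ker ≤ A := fun t ht => by
    by_contra htA
    obtain ⟨b, hb, hba⟩ := hsq t (hex2 t) htA a₁ ha₁ (congrArg Subtype.val ht)
    exact ha₁' b hb hba
  have hAcard : Nat.card A = 16 := by rw [hn.card]; norm_num
  have hle : Nat.card T ≤ 64 := by
    rw [← δ.ker.index_mul_card, Subgroup.index_ker]
    calc Nat.card δ.range * Nat.card δ.ker ≤ 4 * 16 :=
          Nat.mul_le_mul (h.card ▸ Subgroup.card_le_card_group _)
            (hAcard ▸ Subgroup.card_le_of_le hker)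
      _ = 64 := rfl
  have hlt := PGroup.mul_card_le_card h.pgroup (lt_top_iff_ne_top.mpr hAT)
  rw [Subgroup.card_top, hAcard] at hlt
  obtain ⟨m, hm⟩ := IsPGroup.iff_card.mp h.pgroup
  have hmod := card_mod_three h3 h.move (⊤ : Subgroup T) (fun _ _ => Subgroup.mem_top _)
  rw [Subgroup.card_top] at hmod
  have hcard : Nat.card T = 64 := by
    have hm6 : m ≤ 6 := (Nat.pow_le_pow_iff_right (le_refl 2)).mp (hm ▸ hle : 2 ^ m ≤ 2 ^ 6)
    unfold Nat.ModEq at hmod
    interval_cases m <;> omega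
  refine ⟨⟨hcard, fun hc => hAT (eq_top_iff.mpr fun x _ => hcent ?_), h3, h.move⟩,
    fun y hy => h.central ((h.inv y).mp hy)⟩
  exact Subgroup.mem_centralizer_iff.mpr fun a _ => hc.is_comm.comm a x

end ThreeInv

end Cfsg.Agent.HigmanRankTwo
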