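import Cfsg.Agent.Lib.HigmanRankTwo.Structure

/-!
A 2-group with an automorphism of order 3 and a commuting involutory automorphism whose fixed
points form a central four-group: elementary of order 16, homocyclic, or of order 64.
-/

set_option autoImplicit false
set_option linter.style.haveILetI false
set_option linter.unusedSectionVars false

namespace Cfsg.Agent.HigmanRankTwo

open Cfsg.Agent.SylL34
open scoped commutatorElement

universe u

/-- The hypotheses. -/
structure Pair (T : Type*) [Group T] (V : Subgroup T) (τ ρ : MulAut T) : Prop where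
  pgroup : IsPGroup 2 T
  card : Nat.card V = 4
  central : V ≤ Subgroup.center T
  sq : ∀ v ∈ V, v * v = 1
  stable : ∀ v ∈ V, ρ v ∈ V
  tau : ∀ x, τ (τ x) = x
  three : ∀ x, ρ (ρ (ρ x)) = x
  comm : ∀ x, τ (ρ x) = ρ (τ x)
  fixed : ∀ x, τ x = x ↔ x ∈ V
  move : ∀ v ∈ V, ρ v = v → v = 1

/-- Fixed points of an involution on a 2-group with an invariant subgroup. -/
theorem exists_fixed_ne_one {T : Type*} [Group T] [Finite T] (hT : IsPGroup 2 T) (τ : MulAut T)
    (hτ : ∀ x, τ (τ x) = x) (S : Subgroup T) (hS : S ≠ ⊥) (hSτ : ∀ x ∈ S, τ x ∈ S) :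
    ∃ x ∈ S, x ≠ 1 ∧ τ x = x := by
  classical
  haveI : Fact (Nat.Prime 2) := ⟨Nat.prime_two⟩
  haveI : Fintype S := Fintype.ofFinite S
  let f : Function.End S := fun x => ⟨τ x, hSτ x x.2⟩
  have hf : f ^ 2 ^ 1 = 1 := by
    funext x
    exact Subtype.ext (hτ x)
  have h := Equiv.Perm.card_fixedPoints_modEq (p := 2) (n := 1) hf
  haveI : Nontrivial S := (Subgroup.nontrivial_iff_ne_bot S).mpr hS
  obtain ⟨k, hk, hcard⟩ := (hT.to_subgroup S).nontrivial_iff_card.mp inferInstance
  rw [← Nat.card_eq_fintype_card, hcard] at h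
  have h2 : 2 ∣ Fintype.card (Function.fixedPoints f) :=
    Nat.modEq_zero_iff_dvd.mp (h.symm.trans (Nat.modEq_zero_iff_dvd.mpr (dvd_pow_self 2 hk.ne')))
  have h1 : (1 : S) ∈ Function.fixedPoints f := Subtype.ext (map_one τ)
  haveI : Nonempty (Function.fixedPoints f) := ⟨⟨1, h1⟩⟩
  have hpos : 0 < Fintype.card (Function.fixedPoints f) := Fintype.card_pos
  obtain ⟨⟨⟨x, hxS⟩, hx⟩, hne⟩ :=
    Fintype.exists_ne_of_one_lt_card (show 1 < Fintype.card (Function.fixedPoints f) by omega) ⟨1, h1⟩
  exact ⟨x, hxS, fun e => hne (Subtype.ext (Subtype.ext e)), congrArg Subtype.val hx⟩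

namespace Pair

variable {T : Type u} [Group T] [Finite T] {V : Subgroup T} {τ ρ : MulAut T}

theorem fpf (h : Pair T V τ ρ) : ∀ x, ρ x = x → x = 1 := by
  let C : Subgroup T :=
    { carrier := {x | ρ x = x}
      one_mem' := map_one ρ
      mul_mem' := fun {a b} ha hb => by
        show ρ (a * b) = a * b
        rw [map_mul, ha, hb]
      inv_mem' := fun {a} ha => by
        show ρ a⁻¹ = a⁻¹
        rw [map_inv, ha] }
  intro x hx
  by_contra hx1
  obtain ⟨y, hyC, hy1, hy⟩ := exists_fixed_ne_one h.pgroup τ h.tau C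
    (fun e => hx1 (Subgroup.mem_bot.mp (e ▸ (hx : x ∈ C))))
    (fun z hz => by show ρ (τ z) = τ z; rw [← h.comm, hz])
  exact hy1 (h.move y ((h.fixed y).mp hy) hyC)

theorem stable_tau (h : Pair T V τ ρ) {v : T} (hv : v ∈ V) : τ v ∈ V := by
  rwa [(h.fixed v).mpr hv]

/-- Order `4` is reached at most: an abelian group whose squares are in `V`. -/
theorem card_le_of_abelian (h : Pair T V τ ρ) (hc : ∀ a b : T, a * b = b * a)
    (hsq : ∀ a : T, a * a ∈ V) : Nat.card T ≤ 16 := by
  have hmem : ∀ x : T, τ x * x⁻¹ ∈ V := fun x => by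
    have hN : τ x * x ∈ V := (h.fixed _).mp (by rw [map_mul, h.tau, hc x (τ x)])
    have e : τ x * x⁻¹ = τ x * x * (x * x)⁻¹ := by group
    rw [e]
    exact mul_mem hN (inv_mem (hsq x))
  let f : T →* V :=
    { toFun := fun x => ⟨τ x * x⁻¹, hmem x⟩
      map_one' := Subtype.ext (by simp)
      map_mul' := fun a b => Subtype.ext (by
        show τ (a * b) * (a * b)⁻¹ = τ a * a⁻¹ * (τ b * b⁻¹)
        rw [map_mul, mul_inv_rev]
        calc τ a * τ b * (b⁻¹ * a⁻¹) = τ a * ((τ b * b⁻¹) * a⁻¹) := by group
          _ = τ a * (a⁻¹ * (τ b * b⁻¹)) := by rw [hc (τ b * b⁻¹) a⁻¹]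
          _ = _ := by group) }
  have hker : f.ker ≤ V := fun x hx => (h.fixed x).mp (mul_inv_eq_one.mp (congrArg Subtype.val hx))
  rw [← f.ker.index_mul_card, Subgroup.index_ker]
  calc Nat.card f.range * Nat.card f.ker ≤ 4 * 4 :=
        Nat.mul_le_mul (h.card ▸ Subgroup.card_le_card_group _) (h.card ▸ Subgroup.card_le_of_le hker)
    _ = 16 := rfl

end Pair

/-- The conclusion. -/
def Shape (T : Type*) [Group T] (ρ : MulAut T) : Prop :=
  (Nat.card T = 16 ∧ ∀ x : T, x * x = 1) ∨
    (∃ n : ℕ, 1 ≤ n ∧ Nonempty (T ≃* Multiplicative (ZMod (2 ^ n) × ZMod (2 ^ n)))) ∨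
    Fpf T ρ

theorem pair_shape_aux (N : ℕ) : ∀ (T : Type u) [Group T] [Finite T] (V : Subgroup T) (τ ρ : MulAut T),
    Nat.card T = N → Pair T V τ ρ → Shape T ρ := by
  induction N using Nat.strong_induction_on with
  | _ N ih =>
  intro T _ _ V τ ρ hN h
  subst hN
  classical
  haveI : Fact (Nat.Prime 2) := ⟨Nat.prime_two⟩
  have hfp := h.fpf
  have hz : ∀ v ∈ V, ∀ g : T, g * v = v * g := fun v hv g => Subgroup.mem_center_iff.mp (h.central hv) g
  -- the three-involution case
  have hthree : (∀ x : T, x * x = 1 → x ∈ V) → Shape T ρ := fun hinv => by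
    rcases ThreeInv.structure_theorem (ψ := ρ) (V := V)
      ⟨h.pgroup, h.card, h.central, fun x => ⟨hinv x, h.sq x⟩, hfp,
        ⟨1, MulEquiv.ext fun x => h.three x⟩⟩ with hh | ⟨hh, -⟩
    · exact Or.inr (Or.inl hh)
    · exact Or.inr (Or.inr hh)
  by_cases hVT : V = ⊤
  · exact hthree fun x _ => hVT ▸ Subgroup.mem_top x
  haveI hVn : V.Normal := ⟨fun v hv g => by rwa [hz v hv g, mul_inv_cancel_right]⟩
  set π := QuotientGroup.mk' V with hπ
  have hπ1 : ∀ x : T, π x = 1 ↔ x ∈ V := fun x => QuotientGroup.eq_one_iff x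
  have hVρ : V.map ρ.toMonoidHom = V := Subgroup.eq_of_le_of_card_ge
    (by rintro _ ⟨a, ha, rfl⟩; exact h.stable a ha) (Subgroup.card_map_of_injective ρ.injective).ge
  have hVτ : V.map τ.toMonoidHom = V := Subgroup.eq_of_le_of_card_ge
    (by rintro _ ⟨a, ha, rfl⟩; exact h.stable_tau ha) (Subgroup.card_map_of_injective τ.injective).ge
  let ρ' : MulAut (T ⧸ V) := QuotientGroup.congr V V ρ hVρ
  let τ' : MulAut (T ⧸ V) := QuotientGroup.congr V V τ hVτ
  have hρ' : ∀ x : T, ρ' (π x) = π (ρ x) := fun x => rfl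
  have hτ' : ∀ x : T, τ' (π x) = π (τ x) := fun x => rfl
  -- the fixed points on the quotient
  let A : Subgroup T :=
    { carrier := {x | x⁻¹ * τ x ∈ V}
      one_mem' := by show (1 : T)⁻¹ * τ 1 ∈ V; simp [one_mem]
      mul_mem' := fun {a b} ha hb => by
        show (a * b)⁻¹ * τ (a * b) ∈ V
        have e : (a * b)⁻¹ * τ (a * b) = b⁻¹ * ((a⁻¹ * τ a) * τ b) := by rw [map_mul]; group
        rw [e, ← hz _ ha (τ b), ← mul_assoc]
        exact mul_mem hb ha
      inv_mem' := fun {a} ha => by
        show a⁻¹⁻¹ * τ a⁻¹ ∈ V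
        have e : a⁻¹⁻¹ * τ a⁻¹ = a * (a⁻¹ * τ a)⁻¹ * a⁻¹ := by rw [map_inv]; group
        rw [e, hz _ (inv_mem ha) a, mul_inv_cancel_right]
        exact inv_mem ha }
  have hmemA : ∀ x : T, x ∈ A ↔ τ' (π x) = π x := fun x => by
    show x⁻¹ * τ x ∈ V ↔ _
    rw [hτ', eq_comm, QuotientGroup.mk'_apply, QuotientGroup.mk'_apply, QuotientGroup.eq]
  have hVA : V ≤ A := fun v hv => by
    show v⁻¹ * τ v ∈ V
    rw [(h.fixed v).mpr hv, inv_mul_cancel]; exact one_mem V
  have hAρ : ∀ x ∈ A, ρ x ∈ A := fun x hx => by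
    show (ρ x)⁻¹ * τ (ρ x) ∈ V
    rw [h.comm, ← map_inv, ← map_mul]
    exact h.stable _ hx
  have hfpQ : ∀ q : T ⧸ V, ρ' q = q → q = 1 := fun q => by
    induction q using QuotientGroup.induction_on with
    | _ x =>
      intro e
      refine (hπ1 x).mpr (fpf_quotient hfp V h.stable ?_)
      exact QuotientGroup.eq.mp (e.symm)
  let δ : A →* V :=
    { toFun := fun x => ⟨(x : T)⁻¹ * τ x, x.2⟩
      map_one' := Subtype.ext (by simp)
      map_mul' := fun a b => Subtype.ext (by
        show ((a : T) * b)⁻¹ * τ ((a : T) * b) = (a : T)⁻¹ * τ a * ((b : T)⁻¹ * τ b)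
        calc ((a : T) * b)⁻¹ * τ ((a : T) * b) = (b : T)⁻¹ * ((a : T)⁻¹ * τ a * τ b) := by
              rw [map_mul]; group
          _ = (b : T)⁻¹ * (τ b * ((a : T)⁻¹ * τ a)) := by rw [hz _ a.2 (τ b)]
          _ = ((b : T)⁻¹ * τ b) * ((a : T)⁻¹ * τ a) := by group
          _ = _ := by rw [hz _ a.2 ((b : T)⁻¹ * τ b)]) }
  have hA16 : Nat.card A = 16 := by
    have hle : Nat.card A ≤ 16 := by
      rw [← δ.ker.index_mul_card, Subgroup.index_ker]
      have hker : Nat.card δ.ker ≤ 4 := by
        rw [← h.card]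
        refine Nat.card_le_card_of_injective
          (fun x => ⟨((x : A) : T), (h.fixed _).mp (inv_mul_eq_one.mp (congrArg Subtype.val x.2)).symm⟩)
          fun x y e => Subtype.ext (Subtype.ext (congrArg Subtype.val e :))
      calc Nat.card δ.range * Nat.card δ.ker ≤ 4 * 4 :=
            Nat.mul_le_mul (h.card ▸ Subgroup.card_le_card_group _) hker
        _ = 16 := rfl
    haveI : Nontrivial (T ⧸ V) := (QuotientGroup.nontrivial_iff).mpr hVT
    obtain ⟨q, -, hq1, hq⟩ := exists_fixed_ne_one (h.pgroup.to_quotient V) τ'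
      (fun q => by
        induction q using QuotientGroup.induction_on with
        | _ x => show π (τ (τ x)) = π x; rw [h.tau])
      ⊤ top_ne_bot (fun _ _ => Subgroup.mem_top _)
    obtain ⟨x, rfl⟩ := QuotientGroup.mk'_surjective V q
    have hVltA : V < A := lt_of_le_of_ne hVA fun e =>
      hq1 ((hπ1 x).mpr (e ▸ (hmemA x).mpr hq))
    have h8 := PGroup.mul_card_le_card h.pgroup hVltA
    rw [h.card] at h8
    have hmod := card_mod_three h.three hfp A hAρ
    obtain ⟨k, hk⟩ := PGroup.card_eq_pow h.pgroup A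
    unfold Nat.ModEq at hmod
    have hk4 : k ≤ 4 := (Nat.pow_le_pow_iff_right (le_refl 2)).mp (hk ▸ hle : 2 ^ k ≤ 2 ^ 4)
    interval_cases k <;> omega
  set W := A.map π with hW
  have hWmem : ∀ q, q ∈ W ↔ τ' q = q := fun q => by
    constructor
    · rintro ⟨x, hx, rfl⟩
      exact (hmemA x).mp hx
    · intro hq
      obtain ⟨x, rfl⟩ := QuotientGroup.mk'_surjective V q
      exact ⟨x, (hmemA x).mpr hq, rfl⟩
  have hW4 : Nat.card W = 4 := by
    have h1 := (V.subgroupOf A).index_mul_card
    rw [Nat.card_congr (Subgroup.subgroupOfEquivOfLe hVA).toEquiv, h.card, hA16] at h1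
    let g : A →* W :=
      { toFun := fun x => ⟨π x, Subgroup.mem_map_of_mem π x.2⟩
        map_one' := Subtype.ext (map_one π)
        map_mul' := fun a b => Subtype.ext (map_mul π (a : T) b) }
    have hg : Function.Surjective g := by
      rintro ⟨_, x, hx, rfl⟩
      exact ⟨⟨x, hx⟩, rfl⟩
    have hgk : g.ker = V.subgroupOf A := by
      ext x
      rw [MonoidHom.mem_ker, Subgroup.mem_subgroupOf, ← hπ1]
      exact ⟨fun e => congrArg Subtype.val e, fun e => Subtype.ext e⟩
    have h2 := Nat.card_congr (QuotientGroup.quotientKerEquivOfSurjective g hg).toEquiv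
    rw [← Subgroup.index_eq_card, hgk] at h2
    omega
  have hWρ : ∀ q ∈ W, ρ' q ∈ W := by
    rintro _ ⟨x, hx, rfl⟩
    exact ⟨ρ x, hAρ x hx, (hρ' x).symm⟩
  -- `W` is central
  have hWc : W ≤ Subgroup.center (T ⧸ V) := by
    haveI : Nontrivial (T ⧸ V) := (QuotientGroup.nontrivial_iff).mpr hVT
    obtain ⟨q, hqZ, hq1, hqf⟩ := exists_fixed_ne_one (h.pgroup.to_quotient V) τ'
      (fun q => by
        induction q using QuotientGroup.induction_on with
        | _ x => show π (τ (τ x)) = π x; rw [h.tau])
      (Subgroup.center (T ⧸ V)) ((h.pgroup.to_quotient V).bot_lt_center).ne'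
      (fun q hq => Fpf.apply_mem_center τ' hq)
    have hsub : W ⊓ Subgroup.center (T ⧸ V) = W := by
      refine Subgroup.eq_of_le_of_card_ge inf_le_left ?_
      have hmod := card_mod_three (G := T ⧸ V) (σ := ρ') (fun q => by
          induction q using QuotientGroup.induction_on with
          | _ x => show π (ρ (ρ (ρ x))) = π x; rw [h.three]) hfpQ
        (W ⊓ Subgroup.center (T ⧸ V)) fun x hx => ⟨hWρ x hx.1, Fpf.apply_mem_center ρ' hx.2⟩
      have hgt : 1 < Nat.card ↥(W ⊓ Subgroup.center (T ⧸ V)) :=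
        Finite.one_lt_card_iff_nontrivial.mpr ((Subgroup.nontrivial_iff_ne_bot _).mpr fun e =>
          hq1 (Subgroup.mem_bot.mp (e ▸ (⟨(hWmem q).mpr hqf, hqZ⟩ : q ∈ W ⊓ Subgroup.center (T ⧸ V)))))
      obtain ⟨k, hk⟩ := PGroup.card_eq_pow (h.pgroup.to_quotient V) (W ⊓ Subgroup.center (T ⧸ V))
      have hle : Nat.card ↥(W ⊓ Subgroup.center (T ⧸ V)) ≤ 4 := hW4 ▸ Subgroup.card_le_of_le inf_le_left
      have hk2 : k ≤ 2 := (Nat.pow_le_pow_iff_right (le_refl 2)).mp (hk ▸ hle : 2 ^ k ≤ 2 ^ 2)
      unfold Nat.ModEq at hmod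
      rw [hW4]
      interval_cases k <;> omega
    exact hsub ▸ inf_le_right
  have h' : Pair (T ⧸ V) W τ' ρ' := by
    refine ⟨h.pgroup.to_quotient V, hW4, hWc, fun q hq => ?_, hWρ, fun q => ?_, fun q => ?_, fun q => ?_,
      fun q => (hWmem q).symm, fun q _ => hfpQ q⟩
    · -- a group of order 4 without a fixed involution is elementary
      by_contra hne
      have hord : q ^ 4 = 1 := by
        have h1 : (⟨q, hq⟩ : W) ^ 4 = 1 := by rw [← hW4]; exact pow_card_eq_one'
        exact congrArg Subtype.val h1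
      have hzp : Subgroup.zpowers q = W := by
        refine Subgroup.eq_of_le_of_card_ge (Subgroup.zpowers_le.mpr hq) ?_
        rw [hW4, Nat.card_zpowers, orderOf_eq_prime_pow (p := 2) (n := 1) (x := q)
          (by rwa [pow_one, sq]) hord]
        norm_num
      have hρq : ρ' (q * q) = q * q := by
        have hm := hWρ q hq
        rw [← hzp] at hm
        obtain ⟨k, hk⟩ := Subgroup.mem_zpowers_iff.mp hm
        rw [map_mul, ← hk, ← zpow_add]
        rcases Int.even_or_odd k with ⟨s, rfl⟩ | ⟨s, rfl⟩
        · exfalso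
          have h1 : ρ' (q * q) = 1 := by
            rw [map_mul, ← hk, ← zpow_add, show s + s + (s + s) = ((4 : ℕ) : ℤ) * s by push_cast; ring,
              zpow_mul, zpow_natCast, hord, one_zpow]
          exact hne ((map_eq_one_iff ρ' ρ'.injective).mp h1)
        · rw [show 2 * s + 1 + (2 * s + 1) = ((4 : ℕ) : ℤ) * s + 2 by push_cast; ring,
            zpow_add, zpow_mul, zpow_natCast, hord, one_zpow, one_mul, zpow_two]
      exact hne (hfpQ _ hρq)
    · induction q using QuotientGroup.induction_on with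
      | _ x => show π (τ (τ x)) = π x; rw [h.tau]
    · induction q using QuotientGroup.induction_on with
      | _ x => show π (ρ (ρ (ρ x))) = π x; rw [h.three]
    · induction q using QuotientGroup.induction_on with
      | _ x => show π (τ (ρ x)) = π (ρ (τ x)); rw [h.comm]
  have hcardT : Nat.card T = Nat.card (T ⧸ V) * 4 := by
    rw [← h.card]; exact Subgroup.card_eq_card_quotient_mul_card_subgroup V
  have hlt : Nat.card (T ⧸ V) < Nat.card T := by
    have : 0 < Nat.card (T ⧸ V) := Nat.card_pos
    omega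
  rcases ih _ hlt (T ⧸ V) W τ' ρ' rfl h' with ⟨hq16, hqsq⟩ | ⟨n, hn, ⟨e⟩⟩ | hF
  · -- `T / V` elementary of order 16
    refine Or.inr (Or.inr ⟨by omega, fun hc => ?_, h.three, hfp⟩)
    have hle := h.card_le_of_abelian hc.is_comm.comm fun a => (hπ1 _).mp (by rw [map_mul]; exact hqsq _)
    omega
  · -- `T / V` homocyclic
    set N := 2 ^ n with hNdef
    haveI : NeZero N := ⟨by positivity⟩
    have hcardQ : Nat.card (T ⧸ V) = N * N := by
      rw [Nat.card_congr e.toEquiv, Nat.card_congr Multiplicative.toAdd, Nat.card_prod, Nat.card_zmod]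
    -- an element with its image generating
    have hQc : ∀ a b : T ⧸ V, a * b = b * a := fun a b => e.injective (by rw [map_mul, map_mul, mul_comm])
    letI : CommGroup (T ⧸ V) := { (inferInstance : Group (T ⧸ V)) with mul_comm := hQc }
    have hinvQ : Nat.card {a : T ⧸ V // a * a = 1} = 4 := by
      have h2 : ∀ z : ZMod N, z + z = 0 ↔ z = 0 ∨ z = ((2 ^ (n - 1) : ℕ) : ZMod N) := fun z => by
        have hN2 : N = 2 * 2 ^ (n - 1) := by rw [hNdef, ← pow_succ', Nat.sub_add_cancel hn]
        constructor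
        · intro hzz
          have hd : N ∣ z.val + z.val := (ZMod.natCast_eq_zero_iff _ _).mp
            (by push_cast; rwa [ZMod.natCast_zmod_val])
          obtain ⟨k, hk⟩ := hd
          have hvlt := ZMod.val_lt z
          have hk2 : k < 2 := by
            by_contra hk'
            have := Nat.mul_le_mul_left N (show 2 ≤ k by omega)
            omega
          interval_cases k
          · left
            exact (ZMod.val_eq_zero z).mp (by omega)
          · right
            rw [← ZMod.natCast_zmod_val z]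
            congr 1
            omega
        · rintro (rfl | rfl)
          · simp
          · rw [← Nat.cast_add, ← two_mul, ← hN2, ZMod.natCast_self]
      have hz0 : (0 : ZMod N) ≠ ((2 ^ (n - 1) : ℕ) : ZMod N) := fun e0 => by
        have hd := (ZMod.natCast_eq_zero_iff _ _).mp e0.symm
        have := Nat.le_of_dvd (by positivity) hd
        have : 2 ^ (n - 1) < N := Nat.pow_lt_pow_right (by norm_num) (by omega)
        omega
      calc Nat.card {a : T ⧸ V // a * a = 1}
          = Nat.card ({z : ZMod N // z + z = 0} × {z : ZMod N // z + z = 0}) := Nat.card_congr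
            ((Equiv.subtypeEquiv (e.toEquiv.trans Multiplicative.toAdd)
              (q := fun p => p.1 + p.1 = 0 ∧ p.2 + p.2 = 0) fun a => by
                show a * a = 1 ↔ _
                rw [← e.injective.eq_iff, map_mul, map_one, ← Multiplicative.toAdd.injective.eq_iff,
                  toAdd_mul, toAdd_one, Prod.ext_iff]
                rfl).trans (Equiv.subtypeProdEquivProd
                  (p := fun z : ZMod N => z + z = 0) (q := fun z : ZMod N => z + z = 0)))
        _ = 4 := by
          rw [Nat.card_prod]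
          have h22 : Nat.card {z : ZMod N // z + z = 0} = 2 := by
            rw [Nat.card_congr (Equiv.subtypeEquivRight h2),
              show {z : ZMod N // z = 0 ∨ z = ((2 ^ (n - 1) : ℕ) : ZMod N)} =
                ↥({0, ((2 ^ (n - 1) : ℕ) : ZMod N)} : Set (ZMod N)) from rfl,
              Nat.card_coe_set_eq, Set.ncard_pair hz0]
          rw [h22]
    obtain ⟨m, hm⟩ := homocyclic ρ' (h.pgroup.to_quotient V) hinvQ hfpQ
    obtain ⟨a, ha⟩ : ∃ a : T ⧸ V, ∀ b, b * b ≠ a := by
      by_contra hall
      push Not at hall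
      have hinj := (Finite.injective_iff_surjective (f := fun b : T ⧸ V => b * b)).mpr hall
      have : Nat.card {a : T ⧸ V // a * a = 1} ≤ 1 := by
        haveI : Subsingleton {a : T ⧸ V // a * a = 1} := ⟨fun x y => Subtype.ext (hinj
          (show (x : T ⧸ V) * x = (y : T ⧸ V) * y by rw [x.2, y.2]))⟩
        exact Finite.card_le_one_iff_subsingleton.mpr inferInstance
      omega
    obtain ⟨y, rfl⟩ := QuotientGroup.mk'_surjective V a
    have hgen : ∀ x : T, ∃ i j : ℤ, ∃ v ∈ V, x = y ^ i * ρ y ^ j * v := fun x => by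
      obtain ⟨i, j, hij⟩ := hm.gen _ ha (π x)
      refine ⟨i, j, (y ^ i * ρ y ^ j)⁻¹ * x, (hπ1 _).mp ?_, by group⟩
      rw [map_mul, map_inv, map_mul, map_zpow, map_zpow, ← hρ', ← hij, inv_mul_cancel]
    have hyρ : Commute y (ρ y) := SylL34.commute_apply h.three hfp y
    have hc : ∀ a b : T, a * b = b * a := by
      intro a b
      obtain ⟨i, j, v, hv, rfl⟩ := hgen a
      obtain ⟨k, l, w, hw, rfl⟩ := hgen b
      have c1 : Commute (y ^ i * ρ y ^ j) (y ^ k * ρ y ^ l) :=
        (((Commute.refl y).zpow_zpow i k).mul_right (hyρ.zpow_zpow i l)).mul_left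
          ((hyρ.symm.zpow_zpow j k).mul_right ((Commute.refl (ρ y)).zpow_zpow j l))
      have cv : ∀ g, Commute g v := fun g => hz v hv g
      have cw : ∀ g, Commute g w := fun g => hz w hw g
      exact ((c1.mul_right (cw _)).mul_left (((cv _).symm).mul_right (cw _))).eq
    by_cases hn1 : n = 1
    · -- order 16
      by_cases hall : ∀ x : T, x * x = 1
      · left
        exact ⟨by rw [hcardT, hcardQ, hNdef, hn1]; norm_num, hall⟩
      · refine hthree fun x hx => ?_
        by_contra hxV
        refine hall fun w => ?_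
        let Ω : Subgroup T :=
          { carrier := {g | g * g = 1}
            one_mem' := mul_one 1
            mul_mem' := fun {a b} ha hb => by
              show a * b * (a * b) = 1
              calc a * b * (a * b) = a * (b * a) * b := by group
                _ = a * a * (b * b) := by rw [hc b a]; group
                _ = 1 := by rw [ha, hb, mul_one]
            inv_mem' := fun {a} ha => by
              show a⁻¹ * a⁻¹ = 1
              rw [← mul_inv_rev, ha, inv_one] }
        have hΩρ : ∀ g ∈ Ω, ρ g ∈ Ω := fun g hg => by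
          show ρ g * ρ g = 1
          rw [← map_mul, hg, map_one]
        have hVΩ : V < Ω := lt_of_le_of_ne (fun v hv => h.sq v hv) fun e => hxV (e ▸ hx)
        have h8 := PGroup.mul_card_le_card h.pgroup hVΩ
        have hmod := card_mod_three h.three hfp Ω hΩρ
        have hTcard : Nat.card T = 16 := by rw [hcardT, hcardQ, hNdef, hn1]; norm_num
        obtain ⟨k, hk⟩ := PGroup.card_eq_pow h.pgroup Ω
        have hle : Nat.card Ω ≤ 16 := hTcard ▸ Subgroup.card_le_card_group Ω
        have hk4 : k ≤ 4 := (Nat.pow_le_pow_iff_right (le_refl 2)).mp (hk ▸ hle : 2 ^ k ≤ 2 ^ 4)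
        have h16 : Nat.card Ω = 16 := by
          rw [h.card] at h8
          unfold Nat.ModEq at hmod
          interval_cases k <;> omega
        have : w ∈ Ω := (Subgroup.eq_top_of_card_eq Ω (h16.trans hTcard.symm)) ▸ Subgroup.mem_top w
        exact this
    · refine hthree fun x hx => ?_
      -- an involution is the square of a square root of an inverted element
      set p := Multiplicative.toAdd (e (π x)) with hp
      have hp2 : p + p = 0 := by rw [hp, ← toAdd_mul, ← map_mul, ← map_mul, hx, map_one, map_one, toAdd_one]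
      have hhalf : ∀ z : ZMod N, z + z = 0 → ∃ r, r + r = z := fun z hzz => by
        have hd : N ∣ z.val + z.val := (ZMod.natCast_eq_zero_iff _ _).mp
          (by push_cast; rwa [ZMod.natCast_zmod_val])
        have h4 : 2 ^ 2 ∣ z.val + z.val := (pow_dvd_pow 2 (show 2 ≤ n by omega)).trans (hNdef ▸ hd)
        refine ⟨((z.val / 2 : ℕ) : ZMod N), ?_⟩
        rw [← Nat.cast_add, show z.val / 2 + z.val / 2 = z.val by omega, ZMod.natCast_zmod_val]
      obtain ⟨r1, hr1⟩ := hhalf p.1 (by rw [← Prod.fst_add, hp2]; rfl)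
      obtain ⟨r2, hr2⟩ := hhalf p.2 (by rw [← Prod.snd_add, hp2]; rfl)
      obtain ⟨z, hz'⟩ := QuotientGroup.mk'_surjective V (e.symm (Multiplicative.ofAdd (r1, r2)))
      have hxz : π (z * z) = π x := by
        apply e.injective
        rw [map_mul, map_mul, hπ, hz', e.apply_symm_apply, ← ofAdd_add]
        exact (congrArg Multiplicative.ofAdd (Prod.ext hr1 hr2 : (r1, r2) + (r1, r2) = p)).trans (ofAdd_toAdd _)
      have hv : (z * z)⁻¹ * x ∈ V := QuotientGroup.eq.mp hxz
      have hN' : z * τ z ∈ V := (h.fixed _).mp (by rw [map_mul, h.tau, hc])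
      have hinvz : τ (z * z) = (z * z)⁻¹ := by
        have e1 : τ (z * z) * (z * z) = (z * τ z) * (z * τ z) := by
          rw [map_mul]
          calc τ z * τ z * (z * z) = τ z * (τ z * z) * z := by group
            _ = τ z * (z * τ z) * z := by rw [hc (τ z) z]
            _ = (τ z * z) * (τ z * z) := by group
            _ = _ := by rw [hc (τ z) z]
        rw [h.sq _ hN'] at e1
        exact eq_inv_of_mul_eq_one_left e1
      have hxfix : τ x = x := by
        set v := (z * z)⁻¹ * x with hvdef
        have hxe : x = z * z * v := by rw [hvdef]; group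
        have hzz : (z * z) * (z * z) = 1 := by
          have h1 : z * z * v * (z * z * v) = 1 := by rw [← hxe]; exact hx
          calc (z * z) * (z * z) = (z * z) * (z * z) * (v * v) := by rw [h.sq v hv, mul_one]
            _ = z * z * ((z * z) * v) * v := by group
            _ = z * z * (v * (z * z)) * v := by rw [hz v hv (z * z)]
            _ = 1 := by rw [← h1]; group
        rw [hxe, map_mul, hinvz, (h.fixed v).mpr hv, inv_eq_of_mul_eq_one_right hzz]
      exact (h.fixed x).mp hxfix
  · -- `T / V` nonabelian of order 64 is impossible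
    exfalso
    set P := (Subgroup.center (T ⧸ V)).comap π with hP
    have hWeq : W = Subgroup.center (T ⧸ V) := Subgroup.eq_of_le_of_card_ge hWc (by rw [hW4, hF.card_center])
    have hPA : P = A := by
      rw [hP, ← hWeq, hW, Subgroup.comap_map_eq, hπ, QuotientGroup.ker_mk', sup_eq_left.mpr hVA]
    have hcenter : ∀ x : T, π x ∈ Subgroup.center (T ⧸ V) ↔ x ∈ A := fun x => by
      rw [← hPA]; rfl
    have hAab : ∀ a ∈ A, ∀ b ∈ A, a * b = b * a := by
      obtain ⟨a₀, ha₀, ha₀V⟩ := SetLike.exists_of_lt (lt_of_le_of_ne hVA fun e => by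
        have := h.card; rw [e, hA16] at this; omega)
      set S : Set T := (V : Set T) ∪ {a₀, ρ a₀} with hS
      have hSA : Subgroup.closure S = A := by
        refine Subgroup.eq_of_le_of_card_ge ((Subgroup.closure_le _).mpr ?_) ?_
        · rintro x (hx | rfl | rfl)
          · exact hVA hx
          · exact ha₀
          · exact hAρ _ ha₀
        · rw [hA16]
          have hle : Subgroup.closure S ≤ (Subgroup.closure S).comap ρ.toMonoidHom := by
            refine (Subgroup.closure_le _).mpr ?_
            rintro x (hx | rfl | rfl)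
            · exact Subgroup.subset_closure (Or.inl (h.stable x hx))
            · exact Subgroup.subset_closure (Or.inr (Or.inr rfl))
            · show ρ (ρ a₀) ∈ Subgroup.closure S
              rw [eq_inv_of_mul_eq_one_right (orbit_prod h.three hfp a₀)]
              exact inv_mem (mul_mem (Subgroup.subset_closure (Or.inr (Or.inl rfl)))
                (Subgroup.subset_closure (Or.inr (Or.inr rfl))))
          have hlt' : V < Subgroup.closure S := lt_of_le_of_ne
            (fun v hv => Subgroup.subset_closure (Or.inl hv)) fun e =>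
              ha₀V (e ▸ Subgroup.subset_closure (Or.inr (Or.inl rfl)))
          have h8 := PGroup.mul_card_le_card h.pgroup hlt'
          have hmod := card_mod_three h.three hfp (Subgroup.closure S) fun x hx => hle hx
          obtain ⟨k, hk⟩ := PGroup.card_eq_pow h.pgroup (Subgroup.closure S)
          by_contra hlt16
          push Not at hlt16
          have hk4 : k < 4 := (Nat.pow_lt_pow_iff_right (le_refl 2)).mp (hk ▸ hlt16 : 2 ^ k < 2 ^ 4)
          rw [h.card] at h8
          unfold Nat.ModEq at hmod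
          interval_cases k <;> omega
      have h1 : ∀ a ∈ S, ∀ b ∈ S, a * b = b * a := by
        have hcm : a₀ * ρ a₀ = ρ a₀ * a₀ := (SylL34.commute_apply h.three hfp a₀).eq
        rintro a (ha | rfl | rfl) b (hb | rfl | rfl)
        all_goals first
          | exact hz _ hb _
          | exact (hz _ ha _).symm
          | rfl
          | exact hcm
          | exact hcm.symm
      have h2 : A ≤ Subgroup.centralizer (A : Set T) := by
        rw [← hSA, Subgroup.centralizer_closure]
        exact (Subgroup.closure_le _).mpr fun b hb => Subgroup.mem_centralizer_iff.mpr fun a ha => h1 a ha b hb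
      exact fun a ha b hb => Subgroup.mem_centralizer_iff.mp (h2 hb) a ha
    -- the commutators with one element cover `A` modulo `V`
    have hcover : ∀ y : T, y ∉ A → ∀ q ∈ Subgroup.center (T ⧸ V), ∃ g : T, π ⁅g, y⁆ = q := by
      intro y hy q hq
      let f : (T ⧸ V) →* Subgroup.center (T ⧸ V) :=
        { toFun := fun g => ⟨⁅g, π y⁆, hF.comm_mem_center g (π y)⟩
          map_one' := Subtype.ext (commutatorElement_one_left _)
          map_mul' := fun a b => Subtype.ext (hF.comm_mul_left a b (π y)) }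
      have hρimg : ∀ z ∈ (f.range.map (Subgroup.center (T ⧸ V)).subtype), ρ' z ∈
          f.range.map (Subgroup.center (T ⧸ V)).subtype := by
        rintro _ ⟨_, ⟨g, rfl⟩, rfl⟩
        refine ⟨f (ρ' (ρ' g)), ⟨_, rfl⟩, ?_⟩
        show ⁅ρ' (ρ' g), π y⁆ = ρ' ⁅g, π y⁆
        rw [(hF.comm_apply_right (ρ' g) (π y)).2, (hF.comm_apply_right g (π y)).2, hF.three]
      have hne : f.range.map (Subgroup.center (T ⧸ V)).subtype ≠ ⊥ := fun e0 => hy ((hcenter y).mp
        (Subgroup.mem_center_iff.mpr fun g => commutatorElement_eq_one_iff_mul_comm.mp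
          (Subgroup.mem_bot.mp (e0 ▸ ⟨f g, ⟨g, rfl⟩, rfl⟩ : ⁅g, π y⁆ ∈ (⊥ : Subgroup (T ⧸ V))))))
      have htop : f.range.map (Subgroup.center (T ⧸ V)).subtype = Subgroup.center (T ⧸ V) := by
        refine Subgroup.eq_of_le_of_card_ge (Subgroup.map_subtype_le _) ?_
        have hmod := card_mod_three hF.three hF.fpf _ hρimg
        have hgt : 1 < Nat.card ↥(f.range.map (Subgroup.center (T ⧸ V)).subtype) :=
          Finite.one_lt_card_iff_nontrivial.mpr ((Subgroup.nontrivial_iff_ne_bot _).mpr hne)
        obtain ⟨k, hk⟩ := PGroup.card_eq_pow (h.pgroup.to_quotient V)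
          (f.range.map (Subgroup.center (T ⧸ V)).subtype)
        by_contra hlt16
        push Not at hlt16
        rw [hF.card_center] at hlt16
        have hk4 : k < 2 := (Nat.pow_lt_pow_iff_right (le_refl 2)).mp (hk ▸ hlt16 : 2 ^ k < 2 ^ 2)
        unfold Nat.ModEq at hmod
        interval_cases k <;> omega
      obtain ⟨_, ⟨g, rfl⟩, e⟩ := htop.ge hq
      obtain ⟨g, rfl⟩ := QuotientGroup.mk'_surjective V g
      exact ⟨g, by rw [map_commutatorElement]; exact e⟩
    -- hence `A` is central
    have hAc : ∀ a ∈ A, ∀ x : T, x * a = a * x := by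
      intro a ha x
      by_cases hx : x ∈ A
      · exact hAab x hx a ha
      have hρx : ρ x ∉ A := fun e => hx (by
        have := hAρ _ (hAρ _ e)
        rwa [h.three] at this)
      obtain ⟨g, hg⟩ := hcover _ hρx (π a) ((hcenter a).mpr ha)
      have hv : ⁅g, ρ x⁆⁻¹ * a ∈ V := QuotientGroup.eq.mp hg
      have c1 : Commute x ⁅g, ρ x⁆ := by
        rw [commutatorElement_def]
        exact (commute_conj_apply h.three hfp x g).mul_right
          ((SylL34.commute_apply h.three hfp x).inv_right)
      have c2 : Commute x (⁅g, ρ x⁆⁻¹ * a) := hz _ hv x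
      have c3 := c1.mul_right c2
      rw [mul_inv_cancel_left] at c3
      exact c3.eq
    -- an element fixed modulo `A` outside `A`
    haveI hAn : A.Normal := ⟨fun a ha g => by rwa [hAc a ha g, mul_inv_cancel_right]⟩
    have hAτ : A.map τ.toMonoidHom = A := Subgroup.eq_of_le_of_card_ge
      (by
        rintro _ ⟨a, ha, rfl⟩
        show (τ a)⁻¹ * τ (τ a) ∈ V
        rw [← map_inv, ← map_mul]
        exact h.stable_tau ha)
      (Subgroup.card_map_of_injective τ.injective).ge
    let τ'' : MulAut (T ⧸ A) := QuotientGroup.congr A A τ hAτ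
    have hcardTA : Nat.card (T ⧸ A) = 16 := by
      have h1 := Subgroup.card_eq_card_quotient_mul_card_subgroup A
      rw [hA16, hcardT, hF.card] at h1
      omega
    haveI : Nontrivial (T ⧸ A) := Finite.one_lt_card_iff_nontrivial.mp (by omega)
    obtain ⟨q, -, hq1, hq⟩ := exists_fixed_ne_one (h.pgroup.to_quotient A) τ''
      (fun q => by
        induction q using QuotientGroup.induction_on with
        | _ x => show ((τ (τ x) : T) : T ⧸ A) = x; rw [h.tau])
      ⊤ top_ne_bot (fun _ _ => Subgroup.mem_top _)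
    obtain ⟨y, rfl⟩ := QuotientGroup.mk_surjective q
    have hyA : y ∉ A := fun e0 => hq1 ((QuotientGroup.eq_one_iff y).mpr e0)
    have hyfix : y⁻¹ * τ y ∈ A := QuotientGroup.eq.mp (show ((y : T) : T ⧸ A) = (τ y : T) from hq.symm)
    -- commutators with `y`
    have hcA : ∀ g : T, ⁅g, y⁆ ∈ A := fun g => (hcenter _).mp (by
      rw [map_commutatorElement]; exact hF.comm_mem_center _ _)
    let f : T →* A :=
      { toFun := fun g => ⟨⁅g, y⁆, hcA g⟩
        map_one' := Subtype.ext (commutatorElement_one_left y)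
        map_mul' := fun a b => Subtype.ext (by
          show ⁅a * b, y⁆ = ⁅a, y⁆ * ⁅b, y⁆
          rw [show ⁅a * b, y⁆ = a * ⁅b, y⁆ * a⁻¹ * ⁅a, y⁆ by simp only [commutatorElement_def]; group,
            hAc _ (hcA b) a, mul_inv_cancel_right, hAab _ (hcA b) _ (hcA a)]) }
    set I := f.range.map A.subtype with hI
    have hkerbig : 64 ≤ Nat.card f.ker := by
      set K := f.ker with hK
      have hAK : A ≤ K := fun a ha => Subtype.ext (commutatorElement_eq_one_iff_mul_comm.mpr (hAc a ha y).symm)
      have hyK : y ∈ K := Subtype.ext (commutatorElement_self y)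
      have hρyK : ρ y ∈ K := Subtype.ext (commutatorElement_eq_one_iff_mul_comm.mpr
        (SylL34.commute_apply h.three hfp y).symm.eq)
      set L := Subgroup.closure ((A : Set T) ∪ {y, ρ y}) with hL
      have hLK : L ≤ K := (Subgroup.closure_le _).mpr (by
        rintro x (hx | rfl | rfl)
        · exact hAK hx
        · exact hyK
        · exact hρyK)
      have hLρ : ∀ x ∈ L, ρ x ∈ L := by
        have hle : L ≤ L.comap ρ.toMonoidHom := (Subgroup.closure_le _).mpr (by
          rintro x (hx | rfl | rfl)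
          · exact Subgroup.subset_closure (Or.inl (hAρ x hx))
          · exact Subgroup.subset_closure (Or.inr (Or.inr rfl))
          · show ρ (ρ y) ∈ L
            rw [eq_inv_of_mul_eq_one_right (orbit_prod h.three hfp y)]
            exact inv_mem (mul_mem (Subgroup.subset_closure (Or.inr (Or.inl rfl)))
              (Subgroup.subset_closure (Or.inr (Or.inr rfl)))))
        exact fun x hx => hle hx
      have hlt' : A < L := lt_of_le_of_ne (fun a ha => Subgroup.subset_closure (Or.inl ha)) fun e0 =>
        hyA (e0 ▸ Subgroup.subset_closure (Or.inr (Or.inl rfl)))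
      have h8 := PGroup.mul_card_le_card h.pgroup hlt'
      have hmod := card_mod_three h.three hfp L hLρ
      have hLle := Subgroup.card_le_of_le hLK
      obtain ⟨k, hk⟩ := PGroup.card_eq_pow h.pgroup L
      by_contra hlt64
      push Not at hlt64
      have hk6 : k < 6 := (Nat.pow_lt_pow_iff_right (le_refl 2)).mp
        (hk ▸ (lt_of_le_of_lt hLle hlt64) : 2 ^ k < 2 ^ 6)
      rw [hA16] at h8
      unfold Nat.ModEq at hmod
      interval_cases k <;> omega
    have hI4 : Nat.card I ≤ 4 := by
      rw [hI, Subgroup.card_map_of_injective A.subtype_injective]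
      have h1 := f.ker.index_mul_card
      rw [Subgroup.index_ker, hcardT, hF.card] at h1
      by_contra hgt
      push Not at hgt
      have := Nat.mul_le_mul hgt hkerbig
      omega
    have hIA : I ≤ A := Subgroup.map_subtype_le _
    have hIπ : I.map π = Subgroup.center (T ⧸ V) := by
      refine le_antisymm ?_ fun q hq' => ?_
      · rintro _ ⟨x, hx, rfl⟩
        exact (hcenter x).mpr (hIA hx)
      · obtain ⟨g, rfl⟩ := hcover y hyA q hq'
        exact Subgroup.mem_map_of_mem π ⟨f g, ⟨g, rfl⟩, rfl⟩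
    have hIV : ∀ x ∈ I, x ∈ V → x = 1 := by
      have hinj : Set.InjOn π (I : Set T) := by
        have h4 : Nat.card (π '' (I : Set T)) = 4 := by
          have := congrArg (fun S : Subgroup (T ⧸ V) => Nat.card S) hIπ
          simp only [hF.card_center] at this
          exact this
        refine Set.injOn_of_ncard_image_eq ?_ (Set.toFinite _)
        rw [← Nat.card_coe_set_eq, h4, ← Nat.card_coe_set_eq]
        refine le_antisymm ?_ hI4
        rw [← h4]
        exact Nat.card_image_le (Set.toFinite _)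
      intro x hx hxV
      exact hinj hx (one_mem I) (by rw [(hπ1 x).mpr hxV, map_one])
    have hIne : I ≠ ⊥ := fun e0 => by
      rw [e0, Subgroup.map_bot] at hIπ
      have := hF.card_center
      rw [← hIπ, Subgroup.card_bot] at this
      omega
    have hIτ : ∀ x ∈ I, τ x ∈ I := by
      rintro _ ⟨_, ⟨g, rfl⟩, rfl⟩
      refine ⟨f (τ g), ⟨_, rfl⟩, ?_⟩
      show ⁅τ g, y⁆ = τ ⁅g, y⁆
      rw [show τ ⁅g, y⁆ = ⁅τ g, τ y⁆ from map_commutatorElement τ.toMonoidHom g y]
      set a := y⁻¹ * τ y with hadef
      rw [show τ y = y * a by rw [hadef]; group]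
      calc ⁅τ g, y⁆ = ⁅τ g, y⁆ * (y * 1 * y⁻¹) := by group
        _ = ⁅τ g, y⁆ * (y * ⁅τ g, a⁆ * y⁻¹) := by
            rw [show ⁅τ g, a⁆ = 1 from commutatorElement_eq_one_iff_mul_comm.mpr (hAc a hyfix (τ g))]
        _ = ⁅τ g, y * a⁆ := by simp only [commutatorElement_def]; group
    obtain ⟨x, hx, hx1, hxf⟩ := exists_fixed_ne_one h.pgroup τ h.tau I hIne hIτ
    exact hx1 (hIV x hx ((h.fixed x).mp hxf))

theorem Pair.shape {T : Type*} [Group T] [Finite T] {V : Subgroup T} {τ ρ : MulAut T}
    (h : Pair T V τ ρ) : Shape T ρ :=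
  pair_shape_aux _ T V τ ρ rfl h

end Cfsg.Agent.HigmanRankTwo
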