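import Mathlib

/-!
An anisotropic quadratic map from an elementary abelian 2-group into a four-group lives on at
most 16 elements, and an element of `3`-power order acting on at most 16 elements has order
dividing 3.
-/

set_option autoImplicit false
set_option linter.style.haveILetI false

namespace Cfsg.Agent.HigmanRankTwo

open Finset

/-- The four characters of `ZMod 2 × ZMod 2`, as signs. -/
def sgn (c w : ZMod 2 × ZMod 2) : ℤ := if c.1 * w.1 + c.2 * w.2 = 0 then 1 else -1

theorem sgn_add : ∀ c v w : ZMod 2 × ZMod 2, sgn c (v + w) = sgn c v * sgn c w := by decide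

theorem sum_sgn : ∀ w : ZMod 2 × ZMod 2, ∑ c, sgn c w = if w = 0 then 4 else 0 := by decide

theorem sgn_mul_self : ∀ c w : ZMod 2 × ZMod 2, sgn c w * sgn c w = 1 := by decide

/-- An anisotropic quadratic map into a four-group: at most 16 elements. -/
theorem card_le_sixteen_of_quadratic {M : Type*} [CommGroup M] [Finite M] (hM : ∀ x : M, x * x = 1)
    (q : M → ZMod 2 × ZMod 2) (hq1 : q 1 = 0)
    (hB : ∀ x y w : M, q (x * w * y) + q (x * w) + q y =
      (q (x * y) + q x + q y) + (q (w * y) + q w + q y))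
    (hani : ∀ x : M, q x = 0 → x = 1) : Nat.card M ≤ 16 := by
  classical
  haveI : Fintype M := Fintype.ofFinite M
  haveI : Fact (Nat.Prime 2) := ⟨Nat.prime_two⟩
  by_contra hlarge
  push Not at hlarge
  obtain ⟨k, hk⟩ : ∃ k, Nat.card M = 2 ^ k := by
    refine IsPGroup.iff_card.mp fun x => ⟨1, ?_⟩
    rw [pow_one, sq, hM]
  have h32 : (32 : ℤ) ∣ Nat.card M := by
    have hk5 : 5 ≤ k := by
      by_contra hk'
      have : 2 ^ k ≤ 2 ^ 4 := Nat.pow_le_pow_right (by norm_num) (by omega)
      omega
    rw [hk]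
    exact_mod_cast (pow_dvd_pow 2 hk5 : 2 ^ 5 ∣ 2 ^ k)
  -- each sign sum has square divisible by the order
  have hS : ∀ c, (Nat.card M : ℤ) ∣ (∑ x, sgn c (q x)) * (∑ x, sgn c (q x)) := by
    intro c
    have hinner : ∀ y : M, (Nat.card M : ℤ) ∣ ∑ x, sgn c (q (x * y) + q x + q y) := by
      intro y
      by_cases hall : ∀ x, sgn c (q (x * y) + q x + q y) = 1
      · rw [Finset.sum_congr rfl fun x _ => hall x]
        simp [Nat.card_eq_fintype_card]
      · push Not at hall
        obtain ⟨w, hw⟩ := hall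
        have hw' : sgn c (q (w * y) + q w + q y) = -1 := by
          unfold sgn at hw ⊢
          split_ifs at hw ⊢ <;> simp_all
        have h1 : ∑ x, sgn c (q (x * y) + q x + q y) = -∑ x, sgn c (q (x * y) + q x + q y) := by
          conv_lhs => rw [← Equiv.sum_comp (Equiv.mulRight w)]
          rw [← Finset.sum_neg_distrib]
          refine Finset.sum_congr rfl fun x _ => ?_
          show sgn c (q (x * w * y) + q (x * w) + q y) = _
          rw [hB x y w, sgn_add c, hw', mul_neg_one]
        have h0 : ∑ x, sgn c (q (x * y) + q x + q y) = 0 := by omega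
        rw [h0]; exact dvd_zero _
    rw [Finset.sum_mul_sum]
    have key : ∑ x, ∑ y, sgn c (q x) * sgn c (q y) =
        ∑ y, sgn c (q y) * ∑ x, sgn c (q (x * y) + q x + q y) := by
      calc ∑ x, ∑ y, sgn c (q x) * sgn c (q y) = ∑ x, ∑ y, sgn c (q x) * sgn c (q (x * y)) :=
            Finset.sum_congr rfl fun x _ =>
              (Equiv.sum_comp (Equiv.mulLeft x) fun y => sgn c (q x) * sgn c (q y)).symm
        _ = ∑ y, ∑ x, sgn c (q x) * sgn c (q (x * y)) := Finset.sum_comm
        _ = _ := Finset.sum_congr rfl fun y _ => by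
          rw [Finset.mul_sum]
          refine Finset.sum_congr rfl fun x _ => ?_
          rw [sgn_add, sgn_add]
          calc sgn c (q x) * sgn c (q (x * y))
              = sgn c (q x) * sgn c (q (x * y)) * (sgn c (q y) * sgn c (q y)) := by
                rw [sgn_mul_self, mul_one]
            _ = _ := by ring
    rw [key]
    exact Finset.dvd_sum fun y _ => Dvd.dvd.mul_left (hinner y) _
  have h8 : ∀ c, (8 : ℤ) ∣ ∑ x, sgn c (q x) := by
    intro c
    set S := ∑ x, sgn c (q x) with hSdef
    have h : (32 : ℤ) ∣ S * S := dvd_trans h32 (hS c)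
    have hdec : ∀ s : ZMod 32, s * s = 0 → 4 * s = 0 := by decide
    have h' : ((S * S : ℤ) : ZMod 32) = 0 := (ZMod.intCast_zmod_eq_zero_iff_dvd _ _).mpr h
    rw [Int.cast_mul] at h'
    have h4 := hdec _ h'
    have : ((4 * S : ℤ) : ZMod 32) = 0 := by rw [Int.cast_mul]; exact_mod_cast h4
    have := (ZMod.intCast_zmod_eq_zero_iff_dvd _ _).mp this
    omega
  have hsum : ∑ c, ∑ x, sgn c (q x) = 4 := by
    rw [Finset.sum_comm, Finset.sum_congr rfl fun x _ => sum_sgn (q x)]
    rw [Finset.sum_eq_single 1]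
    · simp [hq1]
    · intro x _ hx
      exact if_neg fun e => hx (hani x e)
    · simp
  have : (8 : ℤ) ∣ 4 := hsum ▸ Finset.dvd_sum fun c _ => h8 c
  omega

/-- A permutation of `3`-power order `≥ 9` of a small group: the power of order 3 is trivial. -/
theorem pow_three_fix {M : Type*} [Group M] [Finite M] (hM : IsPGroup 2 M) (h16 : Nat.card M ≤ 16)
    (ψ : MulAut M) {k : ℕ} (hψ : ψ ^ 3 ^ (k + 2) = 1) (x : M) : (ψ ^ 3 ^ (k + 1)) x = x := by
  classical
  haveI : Fintype M := Fintype.ofFinite M
  by_contra hx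
  have horb : ∀ x : M, (ψ ^ 3 ^ (k + 1)) x ≠ x →
      (Finset.image (fun i : ℕ => (ψ ^ i) x) (Finset.range (3 ^ (k + 2)))).card = 3 ^ (k + 2) := by
    intro x hx
    have hper : Function.IsPeriodicPt ψ (3 ^ (k + 2)) x := by
      show ψ^[3 ^ (k + 2)] x = x
      have : ((ψ ^ 3 ^ (k + 2) : MulAut M) : M → M) = ψ^[3 ^ (k + 2)] := by
        have hit : ∀ m : ℕ, ((ψ ^ m : MulAut M) : M → M) = ψ^[m] := fun m => by
          induction m with
          | zero => rfl
          | succ m ih => rw [pow_succ', Function.iterate_succ', ← ih]; rfl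
        exact hit _
      rw [← this, hψ]; rfl
    obtain ⟨j, hj, hmin⟩ := (Nat.dvd_prime_pow Nat.prime_three).mp hper.minimalPeriod_dvd
    have hit : ∀ (m : ℕ) (y : M), (ψ ^ m : MulAut M) y = ψ^[m] y := fun m => by
      induction m with
      | zero => intro y; rfl
      | succ m ih => intro y; rw [pow_succ', Function.iterate_succ_apply', ← ih]; rfl
    have hj2 : k + 2 ≤ j := by
      by_contra hj'
      refine hx ?_
      rw [hit]
      refine Function.isPeriodicPt_iff_minimalPeriod_dvd.mpr ?_
      rw [hmin]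
      exact pow_dvd_pow 3 (by omega)
    rw [Finset.card_image_of_injOn, Finset.card_range]
    intro i hi i' hi' e
    simp only [Finset.coe_range, Set.mem_Iio] at hi hi'
    have hp : 3 ^ (k + 2) ≤ Function.minimalPeriod ψ x := by
      rw [hmin]; exact Nat.pow_le_pow_right (by norm_num) hj2
    simp only [hit] at e
    exact (Function.iterate_eq_iterate_iff_of_lt_minimalPeriod (by omega) (by omega)).mp e
  set O := Finset.image (fun i : ℕ => (ψ ^ i) x) (Finset.range (3 ^ (k + 2))) with hO
  have h9 : 3 ^ (k + 2) = O.card := (horb x hx).symm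
  have hnine : 9 ≤ 3 ^ (k + 2) :=
    le_trans (by norm_num) (Nat.pow_le_pow_right (by norm_num : 0 < 3) (show 2 ≤ k + 2 by omega))
  -- the fixed points form a small subgroup, so a second orbit fits
  let F : Subgroup M :=
    { carrier := {y | (ψ ^ 3 ^ (k + 1)) y = y}
      one_mem' := map_one _
      mul_mem' := fun {a b} ha hb => by
        show (ψ ^ 3 ^ (k + 1)) (a * b) = a * b
        rw [map_mul, ha, hb]
      inv_mem' := fun {a} ha => by
        show (ψ ^ 3 ^ (k + 1)) a⁻¹ = a⁻¹
        rw [map_inv, ha] }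
  have hOm : ∀ y ∈ O, (ψ ^ 3 ^ (k + 1)) y ≠ y := by
    intro y hy e
    obtain ⟨i, -, rfl⟩ := Finset.mem_image.mp hy
    refine hx ((ψ ^ i).injective ?_)
    rw [← MulAut.mul_apply, ← pow_add, add_comm, pow_add, MulAut.mul_apply]
    exact e
  have hdisj : Disjoint O (Finset.univ.filter fun y => y ∈ F) := by
    rw [Finset.disjoint_left]
    intro y hy hy'
    exact hOm y hy (Finset.mem_filter.mp hy').2
  have hF : Nat.card F = (Finset.univ.filter fun y => y ∈ F).card := by
    rw [Nat.card_eq_fintype_card, Fintype.card_subtype]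
  have hle : O.card + Nat.card F ≤ Fintype.card M := by
    rw [hF, ← Finset.card_union_of_disjoint hdisj]
    exact Finset.card_le_univ _
  rw [← Nat.card_eq_fintype_card] at hle
  -- a point outside both
  obtain ⟨y, hyO, hyF⟩ : ∃ y, y ∉ O ∧ y ∉ F := by
    by_contra hc
    push Not at hc
    have hsub : (Finset.univ : Finset M) ⊆ O ∪ Finset.univ.filter fun y => y ∈ F := fun y _ => by
      by_cases hy : y ∈ O
      · exact Finset.mem_union_left _ hy
      · exact Finset.mem_union_right _ (by simpa using hc y hy)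
    have h2 := Finset.card_le_card hsub
    rw [Finset.card_union_of_disjoint hdisj, ← hF, Finset.card_univ, ← Nat.card_eq_fintype_card] at h2
    haveI : Fact (Nat.Prime 2) := ⟨Nat.prime_two⟩
    obtain ⟨a, ha⟩ := IsPGroup.iff_card.mp hM
    obtain ⟨b, hb⟩ := IsPGroup.iff_card.mp (hM.to_subgroup F)
    have hpowF : 2 ^ b ≤ 7 := by rw [← hb]; omega
    have hb2 : b ≤ 2 := by
      by_contra hb'
      have : 2 ^ 3 ≤ 2 ^ b := Nat.pow_le_pow_right (by norm_num) (by omega)
      omega
    have ha4 : a ≤ 4 := (Nat.pow_le_pow_iff_right (le_refl 2)).mp (ha ▸ h16 : 2 ^ a ≤ 2 ^ 4)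
    have h3k : 3 ^ (k + 2) = 9 * 3 ^ k := by ring
    have hk1 : k = 0 := by
      by_contra hk
      have : 3 ≤ 3 ^ k := Nat.le_self_pow hk 3
      omega
    subst hk1
    interval_cases a <;> interval_cases b <;> omega
  -- two disjoint orbits do not fit
  set O' := Finset.image (fun i : ℕ => (ψ ^ i) y) (Finset.range (3 ^ (k + 2))) with hO'
  have h9' : O'.card = 3 ^ (k + 2) := horb y hyF
  have hd' : Disjoint O O' := by
    rw [Finset.disjoint_left]
    intro z hz hz'
    obtain ⟨i, -, rfl⟩ := Finset.mem_image.mp hz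
    obtain ⟨j, hj, e⟩ := Finset.mem_image.mp hz'
    apply hyO
    refine Finset.mem_image.mpr ⟨(3 ^ (k + 2) - j + i) % 3 ^ (k + 2),
      Finset.mem_range.mpr (Nat.mod_lt _ (by positivity)), ?_⟩
    have hmod : ∀ m : ℕ, ψ ^ (m % 3 ^ (k + 2)) = ψ ^ m := fun m => (pow_eq_pow_mod m hψ).symm
    rw [hmod, pow_add, MulAut.mul_apply, ← e, ← MulAut.mul_apply, ← pow_add,
      Nat.sub_add_cancel (Finset.mem_range.mp hj).le, hψ, MulAut.one_apply]
  have h2 := Finset.card_le_univ (O ∪ O')
  rw [Finset.card_union_of_disjoint hd', ← Nat.card_eq_fintype_card] at h2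
  omega

end Cfsg.Agent.HigmanRankTwo
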