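import Cfsg.Agent.Lib.SylL34.Fpf
import Cfsg.Agent.Lib.HigmanRankTwo.Quadratic

/-!
Higman's theorem for rank two: a 2-group with exactly three involutions, all central, and an
automorphism of `3`-power order without fixed points is homocyclic, or has order 64 and the
automorphism has order 3.
-/

set_option autoImplicit false
set_option linter.style.haveILetI false
set_option linter.unusedSectionVars false

namespace Cfsg.Agent.HigmanRankTwo

open Cfsg.Agent.SylL34
open scoped commutatorElement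

variable {T : Type*} [Group T] [Finite T]

section General

variable {ρ : MulAut T}

/-- Each element commutes with all conjugates of its image. -/
theorem commute_conj_apply (h3 : ∀ y, ρ (ρ (ρ y)) = y) (hfp : ∀ y, ρ y = y → y = 1) (x g : T) :
    Commute x (g * ρ x * g⁻¹) := by
  obtain ⟨k, hk⟩ := (inv_mul_bijective hfp).2 g
  have hc := (SylL34.commute_apply h3 hfp (k * x * k⁻¹)).eq
  simp only [map_mul, map_inv] at hc
  rw [← hk]
  show x * (k⁻¹ * ρ k * ρ x * (k⁻¹ * ρ k)⁻¹) = k⁻¹ * ρ k * ρ x * (k⁻¹ * ρ k)⁻¹ * x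
  calc x * (k⁻¹ * ρ k * ρ x * (k⁻¹ * ρ k)⁻¹)
      = k⁻¹ * (k * x * k⁻¹ * (ρ k * ρ x * (ρ k)⁻¹)) * k := by group
    _ = k⁻¹ * (ρ k * ρ x * (ρ k)⁻¹ * (k * x * k⁻¹)) * k := by rw [hc]
    _ = _ := by group

/-- Each element commutes with all its conjugates. -/
theorem commute_conj_self (h3 : ∀ y, ρ (ρ (ρ y)) = y) (hfp : ∀ y, ρ y = y → y = 1) (x g : T) :
    Commute x (g * x * g⁻¹) := by
  have hfp2 : ∀ y, (ρ * ρ) y = y → y = 1 := fun y hy => by
    refine hfp y ?_
    have e : ρ (ρ y) = y := hy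
    have := congrArg ρ e
    rw [h3] at this
    exact this.symm
  have h1 := commute_conj_apply h3 hfp x g
  have h2 := commute_conj_apply (ρ := ρ * ρ) (fun y => by
    show ρ (ρ (ρ (ρ (ρ (ρ y))))) = y
    rw [h3, h3]) hfp2 x g
  have h12 := (h1.mul_right h2).inv_right
  convert h12 using 1
  have ho := eq_inv_of_mul_eq_one_left
    (show x * (ρ x * ρ (ρ x)) = 1 by rw [← mul_assoc]; exact orbit_prod h3 hfp x)
  show g * x * g⁻¹ = (g * ρ x * g⁻¹ * (g * ρ (ρ x) * g⁻¹))⁻¹
  nth_rw 1 [ho]
  group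

theorem commute_commutator (h3 : ∀ y, ρ (ρ (ρ y)) = y) (hfp : ∀ y, ρ y = y → y = 1) (x g : T) :
    Commute x ⁅x, g⁆ := by
  have h := commute_conj_self h3 hfp x g
  have e : ⁅x, g⁆ = x * (g * x * g⁻¹)⁻¹ := by rw [commutatorElement_def]; group
  rw [e]
  exact (Commute.refl x).mul_right h.inv_right

end General

section Homocyclic

variable {A : Type*} [CommGroup A] [Finite A]

/-- The shape of the homocyclic group. -/
structure HomData (A : Type*) [CommGroup A] (ψ : MulAut A) (n : ℕ) : Prop where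
  pos : 1 ≤ n
  exp : ∀ a : A, a ^ 2 ^ n = 1
  card : Nat.card A = 4 ^ n
  gen : ∀ a : A, (∀ b, b * b ≠ a) → ∀ x : A, ∃ i j : ℤ, x = a ^ i * ψ a ^ j
  iso : Nonempty (A ≃* Multiplicative (ZMod (2 ^ n) × ZMod (2 ^ n)))

theorem homocyclic (ψ : MulAut A) (hA : IsPGroup 2 A) (h4 : Nat.card {a : A // a * a = 1} = 4)
    (hfp : ∀ a : A, ψ a = a → a = 1) : ∃ n, HomData A ψ n := by
  classical
  haveI : Fintype A := Fintype.ofFinite A
  haveI : Fact (Nat.Prime 2) := ⟨Nat.prime_two⟩
  obtain ⟨a₀, ha₀⟩ := Monoid.exists_orderOf_eq_exponent (G := A) Monoid.ExponentExists.of_finite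
  obtain ⟨n, hn⟩ := IsPGroup.iff_orderOf.mp hA a₀
  have hexp : ∀ a : A, a ^ 2 ^ n = 1 := fun a => by
    rw [← hn, ha₀]; exact Monoid.pow_exponent_eq_one a
  have hn1 : 1 ≤ n := by
    by_contra hn0
    have hn0' : n = 0 := by omega
    subst hn0'
    have : Nat.card {a : A // a * a = 1} ≤ 1 := by
      haveI : Subsingleton A := ⟨fun a b => by
        have ha := hexp a; have hb := hexp b
        simp only [pow_zero, pow_one] at ha hb
        rw [ha, hb]⟩
      exact Finite.card_le_one_iff_subsingleton.mpr inferInstance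
    omega
  set N := 2 ^ n with hN
  haveI : NeZero N := ⟨by positivity⟩
  -- no relations between an element of maximal order and its image
  have hrel : ∀ a : A, a ^ 2 ^ (n - 1) ≠ 1 → ∀ i j : ℤ, a ^ i * ψ a ^ j = 1 →
      (N : ℤ) ∣ i ∧ (N : ℤ) ∣ j := by
    intro a ha i j hij
    have hm : ∀ m ≤ n, (2 : ℤ) ^ m ∣ i ∧ (2 : ℤ) ^ m ∣ j := by
      intro m
      induction m with
      | zero => intro _; exact ⟨by simp, by simp⟩
      | succ m ih =>
        intro hm
        obtain ⟨⟨i', hi'⟩, j', hj'⟩ := ih (by omega)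
        set w := a ^ 2 ^ (n - 1) with hw
        have hw2 : w * w = 1 := by
          rw [hw, ← pow_add, ← two_mul, ← pow_succ', Nat.sub_add_cancel hn1]
          exact hexp a
        have hwi : ∀ t : ℤ, a ^ ((2 : ℤ) ^ (n - 1) * t) = w ^ t := fun t => by
          rw [zpow_mul, hw]
          norm_cast
        have hwj : ∀ t : ℤ, ψ a ^ ((2 : ℤ) ^ (n - 1) * t) = ψ w ^ t := fun t => by
          rw [zpow_mul, hw, map_pow]
          norm_cast
        have hij' : w ^ i' * ψ w ^ j' = 1 := by
          have h := congrArg (fun z => z ^ ((2 : ℤ) ^ (n - 1 - m))) hij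
          simp only [mul_zpow, one_zpow, ← zpow_mul] at h
          rw [← hwi, ← hwj]
          have e : ∀ t : ℤ, (2 : ℤ) ^ m * t * 2 ^ (n - 1 - m) = 2 ^ (n - 1) * t := fun t => by
            have : n - 1 = m + (n - 1 - m) := by omega
            conv_rhs => rw [this, pow_add]
            ring
          rwa [hi', hj', e, e] at h
        have hpar : ∀ (u : A), u * u = 1 → ∀ t : ℤ, u ^ t = if 2 ∣ t then 1 else u := by
          intro u hu t
          split_ifs with ht
          · obtain ⟨s, rfl⟩ := ht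
            rw [zpow_mul, zpow_two, hu, one_zpow]
          · obtain ⟨s, rfl⟩ := Int.not_even_iff_odd.mp (fun he => ht he.two_dvd)
            rw [zpow_add, zpow_mul, zpow_two, hu, one_zpow, one_mul, zpow_one]
        rw [hpar w hw2, hpar (ψ w) (by rw [← map_mul, hw2, map_one])] at hij'
        have hψw : ψ w ≠ 1 := fun e => ha ((map_eq_one_iff ψ ψ.injective).mp e)
        by_cases h2i : (2 : ℤ) ∣ i' <;> by_cases h2j : (2 : ℤ) ∣ j'
        · obtain ⟨s, rfl⟩ := h2i
          obtain ⟨r, rfl⟩ := h2j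
          exact ⟨⟨s, by rw [hi']; ring⟩, ⟨r, by rw [hj']; ring⟩⟩
        · rw [if_pos h2i, if_neg h2j, one_mul] at hij'
          exact absurd hij' hψw
        · rw [if_neg h2i, if_pos h2j, mul_one] at hij'
          exact absurd hij' ha
        · rw [if_neg h2i, if_neg h2j] at hij'
          exact absurd (hfp w (mul_left_cancel (hij'.trans hw2.symm))) ha
    have := hm n le_rfl
    simpa [hN] using this
  -- the order
  have hle : ∀ m : ℕ, Nat.card (powMonoidHom (α := A) (2 ^ m)).ker ≤ 4 ^ m := by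
    intro m
    induction m with
    | zero =>
      refine le_of_eq (Subgroup.card_eq_one.mpr ?_)
      rw [eq_bot_iff]
      intro x hx
      simpa using hx
    | succ m ih =>
      let f : (powMonoidHom (α := A) (2 ^ (m + 1))).ker →* (powMonoidHom (α := A) (2 ^ m)).ker :=
        { toFun := fun x => ⟨(x : A) * x, by
            have hx : (x : A) ^ 2 ^ (m + 1) = 1 := x.2
            show ((x : A) * x) ^ 2 ^ m = 1
            rwa [← pow_two, ← pow_mul, ← pow_succ']⟩
          map_one' := Subtype.ext (one_mul 1)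
          map_mul' := fun x y => Subtype.ext (by
            show ((x : A) * y) * ((x : A) * y) = ((x : A) * x) * ((y : A) * y)
            exact mul_mul_mul_comm _ _ _ _) }
      have hk : Nat.card f.ker ≤ 4 := by
        rw [← h4]
        refine Nat.card_le_card_of_injective
          (fun x => ⟨((x : (powMonoidHom (α := A) (2 ^ (m + 1))).ker) : A),
            congrArg Subtype.val x.2⟩) fun x y e => ?_
        exact Subtype.ext (Subtype.ext (congrArg Subtype.val e :))
      have hrg : Nat.card f.range ≤ 4 ^ m := (Subgroup.card_le_card_group _).trans ih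
      calc _ = f.ker.index * Nat.card f.ker := (Subgroup.index_mul_card _).symm
        _ = Nat.card f.range * Nat.card f.ker := by rw [Subgroup.index_ker]
        _ ≤ 4 ^ m * 4 := Nat.mul_le_mul hrg hk
        _ = 4 ^ (m + 1) := (pow_succ 4 m).symm
  have htop : (powMonoidHom (α := A) N).ker = ⊤ := eq_top_iff.mpr fun x _ => hexp x
  have hcard : Nat.card A ≤ 4 ^ n := by
    have := hle n
    rwa [← hN, htop, Subgroup.card_top] at this
  -- coordinates from any element of maximal order
  have hcoord : ∀ a : A, a ^ 2 ^ (n - 1) ≠ 1 → ∃ e : Multiplicative (ZMod N × ZMod N) ≃* A,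
      ∀ p, e p = a ^ ((Multiplicative.toAdd p).1.val) * ψ a ^ ((Multiplicative.toAdd p).2.val) := by
    intro a ha
    let f : Multiplicative (ZMod N × ZMod N) →* A :=
      { toFun := fun p => a ^ ((Multiplicative.toAdd p).1.val) * ψ a ^ ((Multiplicative.toAdd p).2.val)
        map_one' := by simp
        map_mul' := fun p q => by
          rw [mul_mul_mul_comm, ← pow_add, ← pow_add, toAdd_mul, Prod.fst_add, Prod.snd_add,
            ZMod.val_add, ZMod.val_add, ← pow_eq_pow_mod _ (hexp a), ← pow_eq_pow_mod _ (hexp (ψ a))] }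
    have hinj : Function.Injective f := by
      refine (injective_iff_map_eq_one f).mpr fun p hp => ?_
      obtain ⟨h1, h2⟩ := hrel a ha ((Multiplicative.toAdd p).1.val : ℤ) ((Multiplicative.toAdd p).2.val : ℤ)
        (by rw [zpow_natCast, zpow_natCast]; exact hp)
      have e1 : (Multiplicative.toAdd p).1.val = 0 :=
        Nat.eq_zero_of_dvd_of_lt (Int.natCast_dvd_natCast.mp h1) (ZMod.val_lt _)
      have e2 : (Multiplicative.toAdd p).2.val = 0 :=
        Nat.eq_zero_of_dvd_of_lt (Int.natCast_dvd_natCast.mp h2) (ZMod.val_lt _)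
      exact congrArg Multiplicative.ofAdd (Prod.ext ((ZMod.val_eq_zero _).mp e1) ((ZMod.val_eq_zero _).mp e2))
    have hcardN : Nat.card (Multiplicative (ZMod N × ZMod N)) = 4 ^ n := by
      rw [Nat.card_congr Multiplicative.toAdd, Nat.card_prod, Nat.card_zmod, hN, ← mul_pow]; norm_num
    refine ⟨MulEquiv.ofBijective f ((Nat.bijective_iff_injective_and_card _).mpr
      ⟨hinj, le_antisymm (Nat.card_le_card_of_injective _ hinj) (hcard.trans hcardN.ge)⟩), fun p => rfl⟩
  have ha₀' : a₀ ^ 2 ^ (n - 1) ≠ 1 := fun e => by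
    have h := Nat.le_of_dvd (by positivity) (orderOf_dvd_of_pow_eq_one e)
    rw [hn] at h
    have : 2 ^ (n - 1) < 2 ^ n := Nat.pow_lt_pow_right (by norm_num) (by omega)
    omega
  obtain ⟨e₀, he₀⟩ := hcoord a₀ ha₀'
  refine ⟨n, hn1, hexp, ?_, ?_, ⟨e₀.symm⟩⟩
  · rw [← Nat.card_congr e₀.toEquiv, Nat.card_congr Multiplicative.toAdd, Nat.card_prod, Nat.card_zmod,
      hN, ← mul_pow]; norm_num
  · intro a hsq x
    have ha : a ^ 2 ^ (n - 1) ≠ 1 := by
      intro e
      obtain ⟨p, hp⟩ := e₀.surjective a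
      rw [he₀] at hp
      rw [← hp, mul_pow, ← pow_mul, ← pow_mul] at e
      obtain ⟨h1, h2⟩ := hrel a₀ ha₀'
        (((Multiplicative.toAdd p).1.val * 2 ^ (n - 1) : ℕ) : ℤ)
        (((Multiplicative.toAdd p).2.val * 2 ^ (n - 1) : ℕ) : ℤ)
        (by rw [zpow_natCast, zpow_natCast]; exact e)
      rw [Int.natCast_dvd_natCast] at h1 h2
      have hNn : 2 * 2 ^ (n - 1) = N := by rw [hN, ← pow_succ', Nat.sub_add_cancel hn1]
      replace h1 := hNn.dvd.trans h1
      replace h2 := hNn.dvd.trans h2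
      obtain ⟨r, hr⟩ := Nat.dvd_of_mul_dvd_mul_right (by positivity) h1
      obtain ⟨s, hs⟩ := Nat.dvd_of_mul_dvd_mul_right (by positivity) h2
      refine hsq (a₀ ^ r * ψ a₀ ^ s) ?_
      rw [← hp, hr, hs, mul_mul_mul_comm, ← pow_add, ← pow_add, two_mul, two_mul]
    obtain ⟨e, he⟩ := hcoord a ha
    obtain ⟨p, rfl⟩ := e.surjective x
    exact ⟨((Multiplicative.toAdd p).1.val : ℤ), ((Multiplicative.toAdd p).2.val : ℤ),
      by rw [he, zpow_natCast, zpow_natCast]⟩

end Homocyclic

theorem four_sq : ∀ z : Multiplicative (ZMod 2 × ZMod 2), z ^ 2 = 1 := by decide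

/-- Three involutions, all central, and a fixed-point-free automorphism of 3-power order. -/
structure ThreeInv (T : Type*) [Group T] (ψ : MulAut T) (V : Subgroup T) : Prop where
  pgroup : IsPGroup 2 T
  card : Nat.card V = 4
  central : V ≤ Subgroup.center T
  inv : ∀ x : T, x * x = 1 ↔ x ∈ V
  move : ∀ x : T, ψ x = x → x = 1
  period : ∃ k : ℕ, ψ ^ 3 ^ k = 1

/-- Descending to exponent one. -/
theorem descend (P : ℕ → Prop) {k : ℕ} (hP : P (k + 1)) (hstep : ∀ j, P (j + 2) → P (j + 1)) : P 1 := by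
  induction k with
  | zero => exact hP
  | succ k ih => exact ih (hstep k hP)

namespace ThreeInv

variable {ψ : MulAut T} {V : Subgroup T}

theorem mem_apply (h : ThreeInv T ψ V) {v : T} (hv : v ∈ V) : ψ v ∈ V :=
  (h.inv _).mp (by rw [← map_mul, (h.inv v).mpr hv, map_one])

theorem pow_apply_of_fix (σ : MulAut T) {d g : T} (hg : σ g = g * d) (hd : σ d = d) (m : ℕ) :
    (σ ^ m) g = g * d ^ m := by
  induction m with
  | zero => simp
  | succ m ih => rw [pow_succ', MulAut.mul_apply, ih, map_mul, map_pow, hg, hd, pow_succ', mul_assoc]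

theorem eq_one_of_cube (h : ThreeInv T ψ V) {d : T} (hd : d ^ 3 = 1) : d = 1 := by
  obtain ⟨k, hk⟩ := h.pgroup d
  have h1 := Nat.dvd_gcd (orderOf_dvd_of_pow_eq_one hd) (orderOf_dvd_of_pow_eq_one hk)
  rw [show Nat.gcd 3 (2 ^ k) = 1 from (Nat.Coprime.pow_right k (by norm_num))] at h1
  exact orderOf_eq_one_iff.mp (Nat.dvd_one.mp h1)

/-- An automorphism moving `g` by an element it fixes, of order 3 on `g`, fixes `g`. -/
theorem fix_of_moved (h : ThreeInv T ψ V) (σ : MulAut T) {g : T} (hd : σ (g⁻¹ * σ g) = g⁻¹ * σ g)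
    (h3 : (σ ^ 3) g = g) : σ g = g := by
  have h4 := pow_apply_of_fix σ (d := g⁻¹ * σ g) (g := g) (by group) hd 3
  rw [h3, left_eq_mul] at h4
  exact (inv_mul_eq_one.mp (h.eq_one_of_cube h4)).symm

theorem cube_fix (h : ThreeInv T ψ V) {v : T} (hv : v ∈ V) : (ψ ^ 3) v = v := by
  classical
  haveI : Fintype T := Fintype.ofFinite T
  by_cases hv1 : v = 1
  · simp [hv1]
  obtain ⟨k, hk⟩ := h.period
  have hd1 : ψ v ≠ v := fun e => hv1 (h.move v e)
  have hd2 : ψ (ψ v) ≠ v := by
    intro e
    have heven : ∀ m : ℕ, (ψ ^ (2 * m)) v = v := fun m => by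
      induction m with
      | zero => rfl
      | succ m ih => rw [Nat.mul_succ, pow_add, MulAut.mul_apply, pow_two, MulAut.mul_apply, e, ih]
    obtain ⟨m, hm⟩ : Odd (3 ^ k) := Odd.pow (by decide)
    refine hd1 ?_
    have h1 := congrArg (fun φ : MulAut T => φ v) hk
    simp only [hm, pow_succ', MulAut.mul_apply, heven, MulAut.one_apply] at h1
    exact h1
  have hd3 : ψ (ψ v) ≠ ψ v := fun e => hd1 (ψ.injective e)
  have hn1 : ψ v ≠ 1 := fun e => hv1 ((map_eq_one_iff ψ ψ.injective).mp e)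
  have hn2 : ψ (ψ v) ≠ 1 := fun e => hn1 ((map_eq_one_iff ψ ψ.injective).mp e)
  have h4 : ({1, v, ψ v, ψ (ψ v)} : Finset T).card = 4 := by
    rw [Finset.card_insert_of_notMem, Finset.card_insert_of_notMem,
      Finset.card_insert_of_notMem, Finset.card_singleton] <;> simp [*, Ne.symm]
  have hsub : ({1, v, ψ v, ψ (ψ v)} : Finset T) = (V : Set T).toFinset := by
    refine Finset.eq_of_subset_of_card_le ?_ ?_
    · intro x hx
      simp only [Finset.mem_insert, Finset.mem_singleton] at hx
      simp only [Set.mem_toFinset, SetLike.mem_coe]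
      rcases hx with rfl | rfl | rfl | rfl
      exacts [one_mem _, hv, h.mem_apply hv, h.mem_apply (h.mem_apply hv)]
    · rw [Set.toFinset_card, h4, Fintype.card_eq_nat_card]
      exact le_of_eq h.card
  have hmem : ψ (ψ (ψ v)) ∈ ({1, v, ψ v, ψ (ψ v)} : Finset T) := by
    rw [hsub]; simpa using h.mem_apply (h.mem_apply (h.mem_apply hv))
  simp only [Finset.mem_insert, Finset.mem_singleton] at hmem
  show ψ (ψ (ψ v)) = v
  rcases hmem with e | e | e | e
  · exact absurd ((map_eq_one_iff ψ ψ.injective).mp e) hn2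
  · exact e
  · exact absurd (ψ.injective e) hd2
  · exact absurd (ψ.injective e) hd3

theorem pow_fix (h : ThreeInv T ψ V) (j : ℕ) {v : T} (hv : v ∈ V) : (ψ ^ 3 ^ (j + 1)) v = v := by
  rw [pow_succ', pow_mul]
  induction 3 ^ j with
  | zero => rfl
  | succ m ih => rw [pow_succ, MulAut.mul_apply, h.cube_fix hv, ih]

/-- On an invariant abelian subgroup a power fixing the involutions fixes everything. -/
theorem fix_abelian (h : ThreeInv T ψ V) (σ : MulAut T) (A : Subgroup T) (hA : IsMulCommutative A)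
    (hAσ : ∀ a ∈ A, σ a ∈ A) (hV : ∀ v ∈ V, σ v = v) (h3 : ∀ a ∈ A, (σ ^ 3) a = a) :
    ∀ a ∈ A, σ a = a := by
  have key : ∀ (m : ℕ) (a : T), a ∈ A → a ^ 2 ^ m = 1 → σ a = a := by
    intro m
    induction m with
    | zero => intro a _ ha; simp only [pow_zero, pow_one] at ha; simp [ha]
    | succ m ih =>
      intro a haA ha
      have hsq : σ (a * a) = a * a := ih _ (mul_mem haA haA) (by rwa [← pow_two, ← pow_mul, ← pow_succ'])
      have hc : a⁻¹ * σ a = σ a * a⁻¹ :=
        congrArg Subtype.val (hA.is_comm.comm ⟨a⁻¹, inv_mem haA⟩ ⟨σ a, hAσ a haA⟩)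
      have hd : (a⁻¹ * σ a) * (a⁻¹ * σ a) = 1 := by
        calc (a⁻¹ * σ a) * (a⁻¹ * σ a) = a⁻¹ * σ a * (σ a * a⁻¹) := by rw [← hc]
          _ = a⁻¹ * (σ a * σ a) * a⁻¹ := by group
          _ = 1 := by rw [← map_mul, hsq]; group
      exact h.fix_of_moved σ (hV _ ((h.inv _).mp hd)) (h3 a haA)
  intro a ha
  obtain ⟨m, hm⟩ := h.pgroup a
  exact key m a ha hm

theorem apply_mem_inv (h : ThreeInv T ψ V) (A : Subgroup T) (hA : ∀ a ∈ A, ψ a ∈ A) (j : ℕ) :
    ∀ a ∈ A, (ψ ^ j) a ∈ A := by
  induction j with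
  | zero => exact fun a ha => ha
  | succ j ih => intro a ha; rw [pow_succ', MulAut.mul_apply]; exact hA _ (ih a ha)

/-- A maximal invariant abelian normal subgroup. -/
structure MaxAb (ψ : MulAut T) (V A : Subgroup T) : Prop where
  normal : A.Normal
  comm : IsMulCommutative A
  le : V ≤ A
  stable : ∀ a ∈ A, ψ a ∈ A
  max : ∀ B : Subgroup T, B.Normal → IsMulCommutative B → A ≤ B → (∀ b ∈ B, ψ b ∈ B) → B = A

theorem exists_maxAb (h : ThreeInv T ψ V) : ∃ A : Subgroup T, MaxAb ψ V A := by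
  classical
  let P : Set (Subgroup T) := {A | A.Normal ∧ IsMulCommutative A ∧ V ≤ A ∧ ∀ a ∈ A, ψ a ∈ A}
  have hP : V ∈ P := ⟨⟨fun v hv g => by
      rwa [Subgroup.mem_center_iff.mp (h.central hv) g, mul_inv_cancel_right]⟩,
    ⟨⟨fun a b => Subtype.ext (Subgroup.mem_center_iff.mp (h.central b.2) a)⟩⟩, le_rfl,
    fun a ha => h.mem_apply ha⟩
  obtain ⟨A, hA⟩ := (Set.toFinite P).exists_maximal ⟨V, hP⟩
  obtain ⟨hn, hc, hl, hs⟩ := hA.prop
  exact ⟨A, hn, hc, hl, hs, fun B hB hBc hAB hBs =>
    le_antisymm (hA.le_of_ge ⟨hB, hBc, hl.trans hAB, hBs⟩ hAB) hAB⟩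

/-- The self-centralising property. -/
theorem centralizer_le (h : ThreeInv T ψ V) {A : Subgroup T} (hA : MaxAb ψ V A) :
    Subgroup.centralizer (A : Set T) ≤ A := by
  classical
  haveI : Fact (Nat.Prime 2) := ⟨Nat.prime_two⟩
  haveI := hA.normal
  by_contra hlt
  set C := Subgroup.centralizer (A : Set T) with hC
  have hAC : A ≤ C := fun a ha => Subgroup.mem_centralizer_iff.mpr fun b hb =>
    congrArg Subtype.val (hA.comm.is_comm.comm ⟨b, hb⟩ ⟨a, ha⟩)
  set π := QuotientGroup.mk' A with hπ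
  let Ω : Subgroup (T ⧸ A) :=
    { carrier := {q | q ∈ Subgroup.center (T ⧸ A) ∧ q * q = 1}
      one_mem' := ⟨one_mem _, one_mul 1⟩
      mul_mem' := fun {a b} ha hb => ⟨mul_mem ha.1 hb.1, by
        calc a * b * (a * b) = a * (b * a) * b := by group
          _ = a * a * (b * b) := by rw [Subgroup.mem_center_iff.mp ha.1 b]; group
          _ = 1 := by rw [ha.2, hb.2, mul_one]⟩
      inv_mem' := fun {a} ha => ⟨inv_mem ha.1, by rw [← mul_inv_rev, ha.2, inv_one]⟩ }
  set X := C ⊓ Ω.comap π with hX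
  have hXC : X ≤ C := inf_le_left
  have hAX : A ≤ X := fun a ha => ⟨hAC ha, by
    show π a ∈ Ω
    rw [show π a = 1 from (QuotientGroup.eq_one_iff a).mpr ha]
    exact one_mem Ω⟩
  have hXsq : ∀ x ∈ X, x * x ∈ A := fun x hx => (QuotientGroup.eq_one_iff _).mp (by
    show π (x * x) = 1
    rw [map_mul]; exact hx.2.2)
  have hXcomm : ∀ x ∈ X, ∀ g : T, ⁅g, x⁆ ∈ A := fun x hx g => (QuotientGroup.eq_one_iff _).mp (by
    show π ⁅g, x⁆ = 1
    rw [map_commutatorElement, commutatorElement_eq_one_iff_mul_comm]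
    exact Subgroup.mem_center_iff.mp hx.2.1 _)
  have hψA : A.map ψ.toMonoidHom = A := Subgroup.eq_of_le_of_card_ge
    (by rintro _ ⟨a, ha, rfl⟩; exact hA.stable a ha)
    (Subgroup.card_map_of_injective ψ.injective).ge
  have hψC : ∀ x ∈ C, ψ x ∈ C := fun x hx => Subgroup.mem_centralizer_iff.mpr fun a ha => by
    rw [SetLike.mem_coe, ← hψA] at ha
    obtain ⟨b, hb, rfl⟩ := ha
    show ψ b * ψ x = ψ x * ψ b
    rw [← map_mul, ← map_mul, Subgroup.mem_centralizer_iff.mp hx b hb]
  have hXψ : ∀ x ∈ X, ψ x ∈ X := fun x hx => by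
    refine ⟨hψC x hx.1, Subgroup.mem_center_iff.mpr fun q => ?_, ?_⟩
    · induction q using QuotientGroup.induction_on with
      | _ g =>
        obtain ⟨g, rfl⟩ := ψ.surjective g
        refine commutatorElement_eq_one_iff_mul_comm.mp ?_
        show ⁅π (ψ g), π (ψ x)⁆ = 1
        rw [← map_commutatorElement π]
        refine (QuotientGroup.eq_one_iff _).mpr ?_
        have h1 := hA.stable _ (hXcomm x hx g)
        rwa [show ψ ⁅g, x⁆ = ⁅ψ g, ψ x⁆ from map_commutatorElement ψ.toMonoidHom g x] at h1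
    · show π (ψ x) * π (ψ x) = 1
      rw [← map_mul, ← map_mul]
      exact (QuotientGroup.eq_one_iff _).mpr (hA.stable _ (hXsq x hx))
  -- some element of `X` lies outside `A`
  obtain ⟨x, hxX, hxA⟩ : ∃ x ∈ X, x ∉ A := by
    haveI : C.Normal := ⟨fun c hc g => Subgroup.mem_centralizer_iff.mpr fun a ha => by
      have h1 := Subgroup.mem_centralizer_iff.mp hc _ (hA.normal.conj_mem a ha g⁻¹)
      rw [inv_inv] at h1
      calc a * (g * c * g⁻¹) = g * ((g⁻¹ * a * g) * c) * g⁻¹ := by group
        _ = g * (c * (g⁻¹ * a * g)) * g⁻¹ := by rw [h1]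
        _ = _ := by group⟩
    haveI : (C.map π).Normal := (inferInstance : C.Normal).map π (QuotientGroup.mk'_surjective A)
    have hne : C.map π ≠ ⊥ := fun e => hlt fun c hc => (QuotientGroup.eq_one_iff c).mp
      (Subgroup.mem_bot.mp (e ▸ Subgroup.mem_map_of_mem π hc : π c ∈ (⊥ : Subgroup (T ⧸ A))))
    obtain ⟨q, hqC, hqZ, hq⟩ := PGroup.exists_orderOf_eq_mem_center (h.pgroup.to_quotient A) _ hne
    obtain ⟨c, hc, rfl⟩ := hqC
    refine ⟨c, ⟨hc, hqZ, ?_⟩, fun hcA => ?_⟩
    · rw [← sq, ← hq]; exact pow_orderOf_eq_one _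
    · rw [show π c = 1 from (QuotientGroup.eq_one_iff c).mpr hcA, orderOf_one] at hq
      exact absurd hq (by norm_num)
  -- commutators in `X` are central involutions
  have hXX : ∀ a ∈ X, ∀ b ∈ X, ⁅a, b⁆ ∈ V := by
    intro a ha b hb
    have hcA : ⁅a, b⁆ ∈ A := hXcomm b hb a
    have hca : ⁅a, b⁆ * a = a * ⁅a, b⁆ := Subgroup.mem_centralizer_iff.mp ha.1 _ hcA
    have h1 : ⁅a * a, b⁆ = 1 := commutatorElement_eq_one_iff_mul_comm.mpr
      (Subgroup.mem_centralizer_iff.mp hb.1 _ (hXsq a ha))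
    have h2 : ⁅a * a, b⁆ = a * ⁅a, b⁆ * a⁻¹ * ⁅a, b⁆ := by
      simp only [commutatorElement_def]; group
    rw [h1, ← hca, mul_inv_cancel_right] at h2
    exact (h.inv _).mp h2.symm
  have hcomm2 : ∀ a ∈ X, ∀ b ∈ X, a * b * (a * b) = a * a * (b * b) * ⁅b, a⁆ := by
    intro a ha b hb
    have hz := fun g => Subgroup.mem_center_iff.mp (h.central (hXX b hb a ha)) g
    calc a * b * (a * b) = a * (⁅b, a⁆ * a * b) * b := by rw [commutatorElement_def]; group
      _ = a * (a * ⁅b, a⁆ * b) * b := by rw [hz a]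
      _ = a * a * (⁅b, a⁆ * (b * b)) := by group
      _ = _ := by rw [← hz (b * b)]; group
  -- powers of order 3 on `X` are trivial
  have hdesc : ∀ j : ℕ, (∀ y ∈ X, (ψ ^ 3 ^ (j + 2)) y = y) → ∀ y ∈ X, (ψ ^ 3 ^ (j + 1)) y = y := by
    intro j hj
    set σ := ψ ^ 3 ^ (j + 1) with hσ
    have hσ3 : ∀ y ∈ X, (σ ^ 3) y = y := fun y hy => by
      rw [hσ, ← pow_mul, ← pow_succ]; exact hj y hy
    have hσA : ∀ a ∈ A, σ a = a := h.fix_abelian σ A hA.comm
      (h.apply_mem_inv A hA.stable _) (fun v hv => h.pow_fix j hv) fun a ha => hσ3 a (hAX ha)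
    let Y : Subgroup T :=
      { carrier := {y | y ∈ X ∧ y * y ∈ V}
        one_mem' := ⟨one_mem _, by rw [one_mul]; exact one_mem V⟩
        mul_mem' := fun {a b} ha hb => ⟨mul_mem ha.1 hb.1, by
          rw [hcomm2 a ha.1 b hb.1]
          exact mul_mem (mul_mem ha.2 hb.2) (hXX b hb.1 a ha.1)⟩
        inv_mem' := fun {a} ha => ⟨inv_mem ha.1, by rw [← mul_inv_rev]; exact inv_mem ha.2⟩ }
    have hVY : V ≤ Y := fun v hv =>
      ⟨hAX (hA.le hv), by rw [(h.inv v).mpr hv]; exact one_mem V⟩
    haveI : (V.subgroupOf Y).Normal := ⟨fun v hv g => by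
      rw [Subgroup.mem_subgroupOf] at hv ⊢
      show (g : T) * (v : T) * (g : T)⁻¹ ∈ V
      rwa [Subgroup.mem_center_iff.mp (h.central hv) (g : T), mul_inv_cancel_right]⟩
    let M := Y ⧸ V.subgroupOf Y
    letI : CommGroup M :=
      { (inferInstance : Group M) with
        mul_comm := fun a b => by
          induction a using QuotientGroup.induction_on with
          | _ a =>
            induction b using QuotientGroup.induction_on with
            | _ b =>
              show ((a * b : Y) : M) = ((b * a : Y) : M)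
              rw [QuotientGroup.eq, Subgroup.mem_subgroupOf]
              show ((a : T) * b)⁻¹ * ((b : T) * a) ∈ V
              have e : ((a : T) * b)⁻¹ * ((b : T) * a) = ⁅(b : T)⁻¹, (a : T)⁻¹⁆ := by
                rw [commutatorElement_def]; group
              rw [e]
              exact hXX _ (inv_mem b.2.1) _ (inv_mem a.2.1) }
    have hMsq : ∀ a : M, a * a = 1 := fun a => by
      induction a using QuotientGroup.induction_on with
      | _ a => exact (QuotientGroup.eq_one_iff (a * a)).mpr (Subgroup.mem_subgroupOf.mpr a.2.2)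
    haveI hK1 : IsKleinFour (Multiplicative (ZMod 2 × ZMod 2)) := ⟨by simp,
      (Monoid.exponent_eq_prime_iff Nat.prime_two).mpr fun g hg => orderOf_eq_prime
        (four_sq g) hg⟩
    haveI hVnt : Nontrivial V := Finite.one_lt_card_iff_nontrivial.mp (by rw [h.card]; norm_num)
    haveI hK2 : IsKleinFour V := ⟨h.card, (Monoid.exponent_eq_prime_iff Nat.prime_two).mpr
      fun g hg => orderOf_eq_prime (by rw [sq]; exact Subtype.ext ((h.inv g).mpr g.2)) hg⟩
    obtain ⟨e⟩ := IsKleinFour.nonempty_mulEquiv (G₁ := V) (G₂ := Multiplicative (ZMod 2 × ZMod 2))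
    let sq' : Y → V := fun y => ⟨(y : T) * y, y.2.2⟩
    have hwell : ∀ a b : Y, a⁻¹ * b ∈ V.subgroupOf Y → sq' a = sq' b := by
      intro a b hab
      refine Subtype.ext ?_
      set v : T := (a : T)⁻¹ * b with hv
      have hvV : v ∈ V := hab
      show (a : T) * a = (b : T) * b
      rw [show (b : T) = a * v by rw [hv]; group]
      calc (a : T) * a = a * a * (v * v) := by rw [(h.inv v).mpr hvV, mul_one]
        _ = a * (a * v) * v := by group
        _ = a * (v * a) * v := by rw [Subgroup.mem_center_iff.mp (h.central hvV) (a : T)]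
        _ = a * v * (a * v) := by group
    let q : M → ZMod 2 × ZMod 2 := fun a => Quotient.liftOn' a
      (fun y => Multiplicative.toAdd (e (sq' y))) fun a b hab => by
        show Multiplicative.toAdd (e (sq' a)) = Multiplicative.toAdd (e (sq' b))
        rw [hwell a b (QuotientGroup.leftRel_apply.mp hab)]
    have hq : ∀ y : Y, q (y : M) = Multiplicative.toAdd (e (sq' y)) := fun y => rfl
    have h16 : Nat.card M ≤ 16 := by
      refine card_le_sixteen_of_quadratic hMsq q ?_ ?_ ?_
      · show q ((1 : Y) : M) = 0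
        rw [hq, show sq' 1 = 1 from Subtype.ext (one_mul 1), map_one, toAdd_one]
      · intro x y w
        induction x using QuotientGroup.induction_on with
        | _ x =>
          induction y using QuotientGroup.induction_on with
          | _ y =>
            induction w using QuotientGroup.induction_on with
            | _ w =>
              show q ((x * w * y : Y) : M) + q ((x * w : Y) : M) + q (y : M) =
                (q ((x * y : Y) : M) + q (x : M) + q (y : M)) +
                  (q ((w * y : Y) : M) + q (w : M) + q (y : M))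
              simp only [hq]
              simp only [← toAdd_mul, ← map_mul]
              refine congrArg (fun z => Multiplicative.toAdd (e z)) (Subtype.ext ?_)
              show ((x : T) * w * y * (x * w * y)) * ((x : T) * w * (x * w)) * ((y : T) * y) =
                ((x : T) * y * (x * y) * ((x : T) * x) * ((y : T) * y)) *
                  ((w : T) * y * (w * y) * ((w : T) * w) * ((y : T) * y))
              have hyx := hXX _ y.2.1 _ x.2.1
              have hyw := hXX _ y.2.1 _ w.2.1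
              have key : ∀ a ∈ X, a * a ∈ V → ∀ b ∈ X, b * b ∈ V →
                  (a * b * (a * b)) * (a * a) * (b * b) = ⁅b, a⁆ := by
                intro a ha ha2 b hb hb2
                rw [hcomm2 a ha b hb]
                have za := fun g => Subgroup.mem_center_iff.mp (h.central ha2) g
                have zb := fun g => Subgroup.mem_center_iff.mp (h.central hb2) g
                calc a * a * (b * b) * ⁅b, a⁆ * (a * a) * (b * b)
                    = a * a * (b * b) * (⁅b, a⁆ * (a * a)) * (b * b) := by group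
                  _ = a * a * (b * b) * ((a * a) * ⁅b, a⁆) * (b * b) := by rw [za ⁅b, a⁆]
                  _ = a * a * ((b * b) * (a * a)) * (⁅b, a⁆ * (b * b)) := by group
                  _ = a * a * (a * a * (b * b)) * (b * b * ⁅b, a⁆) := by rw [za, zb ⁅b, a⁆]
                  _ = (a * a * (a * a)) * ((b * b) * (b * b)) * ⁅b, a⁆ := by group
                  _ = ⁅b, a⁆ := by rw [(h.inv _).mpr ha2, (h.inv _).mpr hb2, one_mul, one_mul]
              rw [key _ (mul_mem x.2.1 w.2.1) (mul_mem x.2 w.2).2 _ y.2.1 y.2.2,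
                key _ x.2.1 x.2.2 _ y.2.1 y.2.2, key _ w.2.1 w.2.2 _ y.2.1 y.2.2]
              calc ⁅(y : T), (x : T) * w⁆
                  = ⁅(y : T), (x : T)⁆ * ((x : T) * ⁅(y : T), (w : T)⁆ * (x : T)⁻¹) := by
                    simp only [commutatorElement_def]; group
                _ = _ := by
                    rw [Subgroup.mem_center_iff.mp (h.central hyw) (x : T), mul_inv_cancel_right]
      · intro a
        induction a using QuotientGroup.induction_on with
        | _ a =>
          intro ha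
          rw [hq, toAdd_eq_zero, map_eq_one_iff e e.injective] at ha
          exact (QuotientGroup.eq_one_iff a).mpr
            (Subgroup.mem_subgroupOf.mpr ((h.inv _).mp (congrArg Subtype.val ha)))
    have hYψ : ∀ y ∈ Y, ψ y ∈ Y := fun y hy =>
      ⟨hXψ y hy.1, by rw [← map_mul]; exact h.mem_apply hy.2⟩
    have hYσ : ∀ y ∈ Y, (ψ⁻¹ : MulAut T) y ∈ Y := by
      obtain ⟨k, hk⟩ := h.period
      have : (ψ⁻¹ : MulAut T) = ψ ^ (3 ^ k - 1) := by
        refine inv_eq_of_mul_eq_one_left ?_
        rw [← pow_succ, Nat.sub_add_cancel (Nat.one_le_pow _ _ (by norm_num)), hk]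
      rw [this]
      exact h.apply_mem_inv Y hYψ _
    let ψY : MulAut Y :=
      { toFun := fun y => ⟨ψ y, hYψ y y.2⟩
        invFun := fun y => ⟨(ψ⁻¹ : MulAut T) y, hYσ y y.2⟩
        left_inv := fun y => Subtype.ext (ψ.symm_apply_apply y)
        right_inv := fun y => Subtype.ext (ψ.apply_symm_apply y)
        map_mul' := fun a b => Subtype.ext (map_mul ψ (a : T) b) }
    have hψYV : (V.subgroupOf Y).map ψY.toMonoidHom = V.subgroupOf Y := Subgroup.eq_of_le_of_card_ge
      (by rintro _ ⟨a, ha, rfl⟩; exact h.mem_apply ha)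
      (Subgroup.card_map_of_injective ψY.injective).ge
    let ψM : MulAut M := QuotientGroup.congr _ _ ψY hψYV
    have hψM : ∀ (m : ℕ) (y : Y), (ψM ^ m) (y : M) = (((ψY ^ m) y : Y) : M) := fun m => by
      induction m with
      | zero => intro y; rfl
      | succ m ih => intro y; rw [pow_succ', MulAut.mul_apply, ih, pow_succ', MulAut.mul_apply]; rfl
    have hψYp : ∀ (m : ℕ) (y : Y), ((ψY ^ m) y : T) = (ψ ^ m) (y : T) := fun m => by
      induction m with
      | zero => intro y; rfl
      | succ m ih =>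
        intro y
        rw [pow_succ', MulAut.mul_apply, pow_succ', MulAut.mul_apply, ← ih]
        rfl
    have hM3 : ψM ^ 3 ^ (j + 2) = 1 := MulEquiv.ext fun a => by
      induction a using QuotientGroup.induction_on with
      | _ a =>
        rw [hψM, show (ψY ^ 3 ^ (j + 2)) a = a from Subtype.ext (by rw [hψYp]; exact hj a a.2.1)]
        rfl
    have hY : ∀ y ∈ Y, σ y = y := by
      intro y hy
      have hfixM : (ψM ^ 3 ^ (j + 1)) ((⟨y, hy⟩ : Y) : M) = ((⟨y, hy⟩ : Y) : M) :=
        pow_three_fix ((h.pgroup.to_subgroup Y).to_quotient _) h16 ψM hM3 _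
      rw [hψM, eq_comm, QuotientGroup.eq, Subgroup.mem_subgroupOf] at hfixM
      have hd : y⁻¹ * σ y ∈ V := by
        have e : ((⟨y, hy⟩ : Y)⁻¹ * (ψY ^ 3 ^ (j + 1)) ⟨y, hy⟩ : Y).1 = y⁻¹ * σ y := by
          show y⁻¹ * ((ψY ^ 3 ^ (j + 1)) ⟨y, hy⟩ : T) = _
          rw [hψYp]
        rwa [e] at hfixM
      exact h.fix_of_moved σ (h.pow_fix j hd) (hσ3 y hy.1)
    intro y hy
    have hy' : σ y ∈ X := h.apply_mem_inv X hXψ _ y hy
    have hd : y⁻¹ * σ y ∈ X := mul_mem (inv_mem hy) hy'
    have hsq : σ y * σ y = y * y := by rw [← map_mul, hσA _ (hXsq y hy)]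
    have hdd : (y⁻¹ * σ y) * (y⁻¹ * σ y) ∈ V := by
      have e := hcomm2 y hy _ hd
      rw [mul_inv_cancel_left, hsq] at e
      have e2 : (y⁻¹ * σ y) * (y⁻¹ * σ y) = ⁅y⁻¹ * σ y, y⁆⁻¹ := by
        refine eq_inv_of_mul_eq_one_left ?_
        rw [mul_assoc] at e
        exact (mul_eq_left.mp e.symm)
      rw [e2]
      exact inv_mem (hXX _ hd _ hy)
    exact h.fix_of_moved σ (hY _ ⟨hd, hdd⟩) (hσ3 y hy)
  have h3X : ∀ y ∈ X, ψ (ψ (ψ y)) = y := by
    obtain ⟨k, hk⟩ := h.period
    intro y hy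
    have := descend (fun j => ∀ y ∈ X, (ψ ^ 3 ^ j) y = y)
      (fun y _ => by rw [pow_succ, pow_mul, hk, one_pow]; rfl) hdesc (k := k) y hy
    rwa [pow_one] at this
  -- enlarge `A`
  let ψX : MulAut X :=
    { toFun := fun y => ⟨ψ y, hXψ y y.2⟩
      invFun := fun y => ⟨ψ (ψ y), hXψ _ (hXψ y y.2)⟩
      left_inv := fun y => Subtype.ext (h3X y y.2)
      right_inv := fun y => Subtype.ext (h3X y y.2)
      map_mul' := fun a b => Subtype.ext (map_mul ψ (a : T) b) }
  have hfX : ∀ y : X, ψX y = y → y = 1 := fun y hy => Subtype.ext (h.move _ (congrArg Subtype.val hy))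
  have h3X' : ∀ y : X, ψX (ψX (ψX y)) = y := fun y => Subtype.ext (h3X y y.2)
  have hxψ : x * ψ x = ψ x * x :=
    congrArg Subtype.val (SylL34.commute_apply h3X' hfX ⟨x, hxX⟩).eq
  have hor : x * ψ x * ψ (ψ x) = 1 := congrArg Subtype.val (orbit_prod h3X' hfX ⟨x, hxX⟩)
  set S : Set T := (A : Set T) ∪ {x, ψ x} with hS
  set B := Subgroup.closure S with hB
  have hAB : A ≤ B := fun a ha => Subgroup.subset_closure (Or.inl ha)
  have hBX : B ≤ X := (Subgroup.closure_le _).mpr (by
    rintro y (hy | rfl | rfl)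
    · exact hAX hy
    · exact hxX
    · exact hXψ x hxX)
  have hBn : B.Normal := ⟨fun b hb g => by
    have e : g * b * g⁻¹ = ⁅g, b⁆ * b := by rw [commutatorElement_def]; group
    rw [e]; exact mul_mem (hAB (hXcomm b (hBX hb) g)) hb⟩
  have hcent : ∀ a ∈ A, a * x = x * a ∧ a * ψ x = ψ x * a := fun a ha =>
    ⟨Subgroup.mem_centralizer_iff.mp hxX.1 a ha, Subgroup.mem_centralizer_iff.mp (hXψ x hxX).1 a ha⟩
  have hBc : IsMulCommutative B := by
    have h1 : ∀ y ∈ S, ∀ z ∈ S, y * z = z * y := by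
      rintro y (hy | rfl | rfl) z (hz | rfl | rfl)
      · exact congrArg Subtype.val (hA.comm.is_comm.comm ⟨y, hy⟩ ⟨z, hz⟩)
      · exact (hcent y hy).1
      · exact (hcent y hy).2
      · exact (hcent z hz).1.symm
      · rfl
      · exact hxψ
      · exact (hcent z hz).2.symm
      · exact hxψ.symm
      · rfl
    have h2 : B ≤ Subgroup.centralizer (B : Set T) := by
      rw [hB, Subgroup.centralizer_closure]
      exact (Subgroup.closure_le _).mpr fun z hz => Subgroup.mem_centralizer_iff.mpr fun y hy => h1 y hy z hz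
    exact ⟨⟨fun a b => Subtype.ext (Subgroup.mem_centralizer_iff.mp (h2 b.2) a a.2)⟩⟩
  have hBψ : ∀ b ∈ B, ψ b ∈ B := by
    have hle : B ≤ B.comap ψ.toMonoidHom := (Subgroup.closure_le _).mpr (by
      rintro y (hy | rfl | rfl)
      · exact hAB (hA.stable y hy)
      · exact Subgroup.subset_closure (Or.inr (Or.inr rfl))
      · show ψ (ψ x) ∈ B
        rw [eq_inv_of_mul_eq_one_right hor]
        exact inv_mem (mul_mem (Subgroup.subset_closure (Or.inr (Or.inl rfl)))
          (Subgroup.subset_closure (Or.inr (Or.inr rfl)))))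
    exact fun b hb => hle hb
  exact hxA (hA.max B hBn hBc hAB hBψ ▸ Subgroup.subset_closure (Or.inr (Or.inl rfl)) : x ∈ A)

end ThreeInv

end Cfsg.Agent.HigmanRankTwo
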